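import Cfsg.Agent.Omega.NOThreeL.RWide.TBlk
import Cfsg.Agent.Mrg.Omega.NOThreeL.RWide.UniT.Fr
import Cfsg.Agent.Mrg.Omega.CaseLQ.PsiBg


/-!
# The action of a 2-group `T ≤ S` on one natural block (helper971's request for `parT`)

`h : TBlk.NB S E N l F e`, `T ≤ S`, `T ≤ N(N)`, `T` a 2-group.

* `natT` : `NatT F N l T e`; `cardl`, `cardN` : `|l| = |F|`, `|N| = |l| |l|`;
* `root_of` : an element of `T` which centralises `l` is `x ↦ x + b y`, `y ↦ y`; `rt`, `rep`;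
* `offM`, `off` : the ROOT LEMMA (module form, resp. for elementary abelian `A`).
-/

set_option autoImplicit false
set_option linter.unusedSectionVars false

namespace Cfsg.Agent.Omega.NOThreeL.RWide.ParA.NBFacts

open Subgroup Cfsg
open Cfsg.Agent.Omega.CaseLQ (NatT)
open Cfsg.Agent.Omega.FFThm (ElemM OffM)
open Cfsg.Agent.Omega.NOThreeL.RWide.TBlk (NB)
open Cfsg.Agent.Omega.NOThreeL.RWide.UniT (Full)

universe u

variable {G : Type u} [Group G] {S E N l T A : Subgroup G} {F : Type} [Field F] {e : G → Fin 2 → F}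

theorem natT (h : NB S E N l F e) (TS : T ≤ S) (TN : T ≤ normalizer (N : Set G)) : NatT F N l T e where
  mul := h.mul
  surj := h.sur
  inj := h.inj
  TN := fun t ht v hv => (mem_normalizer_iff.1 (TN ht) v).1 hv
  memZ := h.line
  semi := fun t ht => by
    obtain ⟨σ, a, b, d, hs⟩ := h.semi t (TS ht) (TN ht)
    refine ⟨σ, fun c v hv w hw hwv => ?_⟩
    rw [hs w hw, hs v hv, hwv]
    funext i
    fin_cases i
    · simp only [Pi.smul_apply, smul_eq_mul, map_mul, Fin.zero_eta, Matrix.cons_val_zero]; ring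
    · simp only [Pi.smul_apply, smul_eq_mul, map_mul, Fin.mk_one, Matrix.cons_val_one, Matrix.cons_val_fin_one]; ring
  line := fun t ht v hv hv1 => by
    obtain ⟨σ, a, b, d, hs⟩ := h.semi t (TS ht) (TN ht)
    rw [hs v hv]
    simp [hv1]

theorem natB (h : NB S E N l F e) : NatT F N l (⊥ : Subgroup G) e := natT h bot_le bot_le

theorem cardl [Finite G] [Finite F] (h : NB S E N l F e) [CharP F 2] : Nat.card l = Nat.card F := (natB h).card_Z

theorem cardN [Finite G] [Finite F] [CharP F 2] (h : NB S E N l F e) : Nat.card N = Nat.card l * Nat.card l := by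
  rw [cardl h, (natB h).card_N, sq]

theorem lN (h : NB S E N l F e) : l ≤ N := fun v hv => ((h.line v).1 hv).1

theorem lne (h : NB S E N l F e) : l ≠ ⊥ := by
  intro h0
  obtain ⟨v, hv, hv'⟩ := h.sur ![1, 0]
  have h1 : v ∈ l := (h.line v).2 ⟨hv, by rw [hv']; rfl⟩
  rw [h0, mem_bot] at h1
  rw [h1, (natB h).e_one] at hv'
  exact zero_ne_one (congrFun hv' 0)

theorem sq [CharP F 2] (h : NB S E N l F e) : ∀ v ∈ N, v * v = 1 := fun v hv =>
  h.inj _ (mul_mem hv hv) (by rw [h.mul v hv v hv, CharTwo.add_self_eq_zero])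

theorem Tl (h : NB S E N l F e) (TS : T ≤ S) (TN : T ≤ normalizer (N : Set G)) : T ≤ normalizer (l : Set G) := by
  have h1 := natT h TS TN
  have h2 : ∀ t ∈ T, ∀ v ∈ l, t * v * t⁻¹ ∈ l := fun t ht v hv =>
    (h.line _).2 ⟨h1.TN t ht v ((h.line v).1 hv).1, h1.line t ht v ((h.line v).1 hv).1 ((h.line v).1 hv).2⟩
  intro t ht
  refine mem_normalizer_iff.2 fun v => ⟨h2 t ht v, fun hv => ?_⟩
  have h3 := h2 t⁻¹ (inv_mem ht) _ hv
  have h4 : t⁻¹ * (t * v * t⁻¹) * t⁻¹⁻¹ = v := by group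
  rwa [h4] at h3

theorem pow_two_pow_eq_one [CharP F 2] {d : F} : ∀ k : ℕ, d ^ 2 ^ k = 1 → d = 1
  | 0, h => by simpa using h
  | k + 1, h => by
      refine pow_two_pow_eq_one k ?_
      have h1 : (d ^ 2 ^ k + 1) * (d ^ 2 ^ k + 1) = 0 := by
        have h2 : (d ^ 2 ^ k + 1) * (d ^ 2 ^ k + 1) = d ^ 2 ^ k * d ^ 2 ^ k + 1 + (d ^ 2 ^ k + d ^ 2 ^ k) := by ring
        rw [h2, CharTwo.add_self_eq_zero, add_zero, ← pow_add, ← two_mul, ← pow_succ', h, CharTwo.add_self_eq_zero]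
      have h2 := mul_self_eq_zero.1 h1
      exact (CharTwo.add_eq_zero.1 h2)

/-- an element of a 2-group which centralises the line is a root element -/
theorem root_of [CharP F 2] (h : NB S E N l F e) (TS : T ≤ S) (TN : T ≤ normalizer (N : Set G)) (T2 : IsPGroup 2 T)
    {t : G} (ht : t ∈ T) (hl : t ∈ centralizer (l : Set G)) :
    ∃ b : F, ∀ v ∈ N, e (t * v * t⁻¹) = ![e v 0 + b * e v 1, e v 1] := by
  have hN := natT h TS TN
  obtain ⟨σ, a, b, d, hs⟩ := h.semi t (TS ht) (TN ht)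
  have h1 : ∀ x : F, a * σ x = x := by
    intro x
    obtain ⟨v, hv, hv'⟩ := h.sur ![x, 0]
    have h2 : v ∈ l := (h.line v).2 ⟨hv, by rw [hv']; rfl⟩
    have h3 : t * v * t⁻¹ = v := mul_inv_eq_iff_eq_mul.2 (mem_centralizer_iff.1 hl v h2).symm
    have h4 := congrFun (hs v hv) 0
    rw [h3, hv'] at h4
    simpa using h4.symm
  have ha : a = 1 := by simpa using h1 1
  have hσ : ∀ x : F, σ x = x := fun x => by simpa [ha] using h1 x
  have hs' : ∀ v ∈ N, e (t * v * t⁻¹) = ![e v 0 + b * e v 1, d * e v 1] := fun v hv => by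
    rw [hs v hv, hσ, hσ, ha, one_mul]
  have hn : ∀ n : ℕ, ∀ v ∈ N, e (t ^ n * v * (t ^ n)⁻¹) 1 = d ^ n * e v 1 := by
    intro n
    induction n with
    | zero => intro v hv; simp
    | succ n ih =>
      intro v hv
      have h2 := hN.TN (t ^ n) (pow_mem ht n) v hv
      have h3 : t ^ (n + 1) * v * (t ^ (n + 1))⁻¹ = t * (t ^ n * v * (t ^ n)⁻¹) * t⁻¹ := by rw [pow_succ']; group
      rw [h3, hs' _ h2]
      have h4 : (![e (t ^ n * v * (t ^ n)⁻¹) 0 + b * e (t ^ n * v * (t ^ n)⁻¹) 1,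
        d * e (t ^ n * v * (t ^ n)⁻¹) 1] : Fin 2 → F) 1 = d * e (t ^ n * v * (t ^ n)⁻¹) 1 := rfl
      rw [h4, ih v hv, pow_succ', mul_assoc]
  obtain ⟨k, hk⟩ := T2 ⟨t, ht⟩
  have hk' : t ^ 2 ^ k = 1 := by simpa using congrArg Subtype.val hk
  obtain ⟨v, hv, hv'⟩ := h.sur ![0, 1]
  have h2 := hn (2 ^ k) v hv
  rw [hk'] at h2
  have h3 : d ^ 2 ^ k = 1 := by
    have h4 : e v 1 = 1 := by rw [hv']; rfl
    simpa [h4] using h2.symm
  have hd := pow_two_pow_eq_one k h3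
  exact ⟨b, fun v hv => by rw [hs' v hv, hd, one_mul]⟩

variable [CharP F 2]

/-- the commutator of a root element -/
theorem e_comm (h : NB S E N l F e) {t : G} (tN : ∀ v ∈ N, t * v * t⁻¹ ∈ N) {b : F}
    (hb : ∀ v ∈ N, e (t * v * t⁻¹) = ![e v 0 + b * e v 1, e v 1]) {v : G} (hv : v ∈ N) :
    t * v * t⁻¹ * v⁻¹ ∈ N ∧ e (t * v * t⁻¹ * v⁻¹) = ![b * e v 1, 0] := by
  have hN := natB h
  refine ⟨mul_mem (tN v hv) (inv_mem hv), ?_⟩
  rw [h.mul _ (tN v hv) _ (inv_mem hv), hN.e_inv hv, hb v hv]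
  funext i
  fin_cases i <;> simp

/-- (2) an element of `T` which centralises the line acts as a root element -/
theorem rt (h : NB S E N l F e) (TS : T ≤ S) (TN : T ≤ normalizer (N : Set G)) (T2 : IsPGroup 2 T) :
    ∀ t ∈ T, t ∈ centralizer (l : Set G) → (∀ v ∈ N, t * v * t⁻¹ * v⁻¹ ∈ l) ∧
      (t ∉ centralizer (N : Set G) → ∀ z ∈ l, ∃ v ∈ N, t * v * t⁻¹ * v⁻¹ = z) := by
  intro t ht hl
  have hN := natT h TS TN
  obtain ⟨b, hb⟩ := root_of h TS TN T2 ht hl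
  have hc := fun {v : G} (hv : v ∈ N) => e_comm h (hN.TN t ht) hb hv
  refine ⟨fun v hv => (h.line _).2 ⟨(hc hv).1, by rw [(hc hv).2]; rfl⟩, fun htn z hz => ?_⟩
  have hb0 : b ≠ 0 := by
    rintro rfl
    refine htn (mem_centralizer_iff.2 fun v hv => ?_)
    have h2 := hb v hv
    rw [zero_mul, add_zero] at h2
    have h3 := hN.ext (hN.TN _ ht v hv) hv (h2.trans (by funext i; fin_cases i <;> rfl))
    exact (mul_inv_eq_iff_eq_mul.1 h3).symm
  obtain ⟨v, hv, hv'⟩ := h.sur ![0, b⁻¹ * e z 0]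
  refine ⟨v, hv, hN.ext (hc hv).1 (lN h hz) ?_⟩
  rw [(hc hv).2, hv']
  funext i
  fin_cases i
  · simp [mul_inv_cancel_left₀ hb0]
  · exact ((h.line z).1 hz).2.symm

/-- (3) ... and is covered by every full root group -/
theorem rep (h : NB S E N l F e) (TS : T ≤ S) (TN : T ≤ normalizer (N : Set G)) (T2 : IsPGroup 2 T) (AT : A ≤ T)
    (hA : Full A N l) {t : G} (ht : t ∈ T) (hl : t ∈ centralizer (l : Set G)) :
    ∃ a ∈ A, a⁻¹ * t ∈ centralizer (N : Set G) := by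
  have hN := natT h TS TN
  obtain ⟨b, hb⟩ := root_of h TS TN T2 ht hl
  obtain ⟨v, hv, hv'⟩ := h.sur ![0, 1]
  have hvl : v ∉ l := fun h0 => by
    have h1 := ((h.line v).1 h0).2
    rw [hv'] at h1
    exact one_ne_zero h1
  obtain ⟨a, ha, h1⟩ := hA.onA v hv hvl _ ((rt h TS TN T2 t ht hl).1 v hv)
  obtain ⟨c, hc⟩ := root_of h TS TN T2 (AT ha) (hA.cent ha)
  have h2 : c = b := by
    have h3 := congrFun (e_comm h (hN.TN a (AT ha)) hc hv).2 0
    rw [h1, (e_comm h (hN.TN t ht) hb hv).2, hv'] at h3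
    simpa using h3.symm
  refine ⟨a, ha, mem_centralizer_iff.2 fun w hw => ?_⟩
  have h3 : t * w * t⁻¹ = a * w * a⁻¹ := hN.ext (hN.TN t ht w hw) (hN.TN a (AT ha) w hw) (by rw [hb w hw, hc w hw, h2])
  have h4 : a⁻¹ * t * w * (a⁻¹ * t)⁻¹ = w := by
    calc a⁻¹ * t * w * (a⁻¹ * t)⁻¹ = a⁻¹ * (t * w * t⁻¹) * a := by group
      _ = w := by rw [h3]; group
  exact (mul_inv_eq_iff_eq_mul.1 h4).symm

/-- a subgroup of `T` which acts as the full root group -/
theorem full_of (h : NB S E N l F e) (AN : ∀ t ∈ A, ∀ v ∈ N, t * v * t⁻¹ ∈ N)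
    (h1 : ∀ t ∈ A, ∃ b : F, ∀ v ∈ N, e (t * v * t⁻¹) = ![e v 0 + b * e v 1, e v 1])
    (h2 : ∀ b : F, ∃ t ∈ A, ∀ v ∈ N, e (t * v * t⁻¹) = ![e v 0 + b * e v 1, e v 1])
    (hc : Nat.card A = Nat.card ↥(A ⊓ centralizer (N : Set G)) * Nat.card l) : Full A N l := by
  have hN := natB h
  refine ⟨fun t ht => mem_centralizer_iff.2 fun v hv => ?_, fun t ht v hv => ?_, fun v hv hvl z hz => ?_,
    fun t ht htn z hz => ?_, hc, fun hle => ?_⟩
  · obtain ⟨b, hb⟩ := h1 t ht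
    have hv' := (h.line v).1 hv
    have h3 := hb v hv'.1
    rw [hv'.2, mul_zero, add_zero] at h3
    have h4 := hN.ext (AN t ht v hv'.1) hv'.1 (h3.trans (by
      funext i
      fin_cases i
      · rfl
      · exact hv'.2.symm))
    exact (mul_inv_eq_iff_eq_mul.1 h4).symm
  · obtain ⟨b, hb⟩ := h1 t ht
    have h3 := e_comm h (AN t ht) hb hv
    exact (h.line _).2 ⟨h3.1, by rw [h3.2]; rfl⟩
  · have hv1 : e v 1 ≠ 0 := fun h0 => hvl ((h.line v).2 ⟨hv, h0⟩)
    obtain ⟨t, ht, hb⟩ := h2 (e z 0 * (e v 1)⁻¹)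
    have h3 := e_comm h (AN t ht) hb hv
    refine ⟨t, ht, hN.ext h3.1 (lN h hz) ?_⟩
    rw [h3.2]
    funext i
    fin_cases i
    · simp [inv_mul_cancel₀ hv1, mul_assoc]
    · simp [((h.line z).1 hz).2]
  · obtain ⟨b, hb⟩ := h1 t ht
    have hb0 : b ≠ 0 := by
      rintro rfl
      refine htn (mem_centralizer_iff.2 fun v hv => ?_)
      have h2 := hb v hv
      rw [zero_mul, add_zero] at h2
      have h3 := hN.ext (AN _ ht v hv) hv (h2.trans (by funext i; fin_cases i <;> rfl))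
      exact (mul_inv_eq_iff_eq_mul.1 h3).symm
    obtain ⟨v, hv, hv'⟩ := h.sur ![0, b⁻¹ * e z 0]
    have h3 := e_comm h (AN t ht) hb hv
    refine ⟨v, hv, hN.ext h3.1 (lN h hz) ?_⟩
    rw [h3.2, hv']
    funext i
    fin_cases i
    · simp [mul_inv_cancel_left₀ hb0]
    · exact ((h.line z).1 hz).2.symm
  · obtain ⟨t, ht, hb⟩ := h2 1
    obtain ⟨v, hv, hv'⟩ := h.sur ![0, 1]
    have h3 : t * v * t⁻¹ = v := mul_inv_eq_iff_eq_mul.2 (mem_centralizer_iff.1 (hle ht) v hv).symm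
    have h4 := congrFun (hb v hv) 0
    rw [h3, hv'] at h4
    simp at h4

variable [Finite G] [Finite F]

/-- (4) the ROOT LEMMA, module form -/
theorem offM (h : NB S E N l F e) (TS : T ≤ S) (TN : T ≤ normalizer (N : Set G)) (AT : A ≤ T) (hm : ElemM N A)
    (hle : Nat.card N * Nat.card ↥(A ⊓ centralizer (N : Set G)) ≤ Nat.card A * Nat.card ↥(N ⊓ centralizer (A : Set G))) :
    A ≤ centralizer (N : Set G) ∨ Full A N l := by
  have hN := natT h TS TN
  by_cases hc : A ≤ centralizer (N : Set G)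
  · exact Or.inl hc
  refine Or.inr ?_
  have ho : OffM N A := ⟨hm, hc, hle⟩
  obtain ⟨h1, h2⟩ := hN.full AT ho
  refine full_of h (fun t ht => hN.TN t (AT ht)) h1 h2 ?_
  have h3 := hN.no AT hm hc
  have h4 := le_antisymm h3 hle
  rw [hN.cent_eq AT ho, hN.card_N, hN.card_Z] at h4
  rw [hN.card_Z]
  have h5 : 0 < Nat.card F := Nat.card_pos
  refine Nat.eq_of_mul_eq_mul_right h5 ?_
  rw [h4]
  ring

theorem elemM_of (hA : IsElementaryAbelian 2 A) : ElemM N A where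
  sq := fun a ha => by
    rw [hA.2 a ha]
    exact one_mem _
  comm := fun a ha b hb => by
    have h1 : a * b = b * a := congrArg (fun t : A => (t : G)) (hA.1.is_comm.comm ⟨a, ha⟩ ⟨b, hb⟩)
    rw [h1, mul_inv_cancel_right, mul_inv_cancel]
    exact one_mem _

/-- (4) the ROOT LEMMA -/
theorem off (h : NB S E N l F e) (TS : T ≤ S) (TN : T ≤ normalizer (N : Set G)) (AT : A ≤ T)
    (hA : IsElementaryAbelian 2 A)
    (hle : Nat.card N * Nat.card ↥(A ⊓ centralizer (N : Set G)) ≤ Nat.card A * Nat.card ↥(N ⊓ centralizer (A : Set G))) :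
    A ≤ centralizer (N : Set G) ∨ Full A N l := offM h TS TN AT (elemM_of hA) hle

/-- no over-offender -/
theorem no (h : NB S E N l F e) (TS : T ≤ S) (TN : T ≤ normalizer (N : Set G)) (AT : A ≤ T) (hm : ElemM N A) :
    Nat.card A * Nat.card ↥(N ⊓ centralizer (A : Set G)) ≤ Nat.card N * Nat.card ↥(A ⊓ centralizer (N : Set G)) := by
  by_cases hc : A ≤ centralizer (N : Set G)
  · have h1 : A ⊓ centralizer (N : Set G) = A := inf_eq_left.2 hc
    have h2 := Subgroup.card_le_of_le (inf_le_left : N ⊓ centralizer (A : Set G) ≤ N)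
    rw [h1, mul_comm]
    exact Nat.mul_le_mul_right _ h2
  · exact (natT h TS TN).no AT hm hc

end Cfsg.Agent.Omega.NOThreeL.RWide.ParA.NBFacts
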