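import Cfsg.Agent.Mrg.Omega.NOThreeL.RWide.ParA.One
import Cfsg.Agent.Mrg.Omega.NOThreeL.RWide.ParA.NBFacts
import Cfsg.Agent.Mrg.Omega.NOThreeL.RWide.ParQ.I
import Cfsg.Agent.Mrg.Omega.NOThreeL.RWide.ParT.Loc
import Cfsg.Agent.Mrg.Omega.TTn.DiCoreAbs


/-!
# `parT`, active case: the input of [O] over `TFm` (helper506 #27090, helper971 #27366)

`T = TT S N`, `F = FF S N l`, `P ∈ 𝒫(T)`, `P ≤ Y_j`, `P` moves `F_j`; `A ∈ 𝒜(O)` moves `N_j`, `O₂(P) ≤ C(N_j)` ([X]).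

* `YG T P V = ⟨Ω₁Z(T)^P⟩ ⟨V^P⟩`; `Y_eab`, `Y_le_T`, `Y_le_O`, `P_norm_Y` for `V = N_j`;
* **`inT_of`** : `InT T P A (N j) (l j) (YG T P (N j))`.
-/

set_option autoImplicit false
set_option linter.unusedSectionVars false

namespace Cfsg.Agent.Omega.NOThreeL.RWide.ParA.Glue

open Subgroup Cfsg Cfsg.Agent.Omega.MinPar
open Cfsg.Agent.ZN (zc o2 zl)
open Cfsg.Agent.ZN.ChoiceBase (cj cj_mono cj_inf cj_centralizer cj_eq_of_mem_normalizer mem_cj mem_normalizer_iff_cj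
  cj_cj_inv cj_inv_cj cj_cj cj_one mem_zc isPGroup_cj card_cj)
open Cfsg.Agent.MinSimple.MinParabolic (IsMinPar)
open Cfsg.Agent.MinSimple.VModule (le_normalizer_zl le_normalizer_o2 oddGen)
open Cfsg.Agent.Omega.NoFF.Basic (comm_symm)
open Cfsg.Agent.Omega.EDel.ThmU (XF)
open Cfsg.Agent.Omega.FFThm (ElemM OffM relIndex_le_iff)
open Cfsg.Agent.Omega.FrameFF (cv)
open Cfsg.Agent.Omega.KL.TwoS (Mx)
open Cfsg.Agent.Omega.NO3S.EThree Cfsg.Agent.Omega.NO3S.EThree.ExactA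
open Cfsg.Agent.Omega.NOThreeL.RWide.TAct (TT Tf OT)
open Cfsg.Agent.Omega.NOThreeL.RWide.ParQ (toTf cj_N_le)
open Cfsg.Agent.Omega.NOThreeL.RWide.ParT.Loc (Typ0)

universe u v

variable {G : Type u} [Group G]

/-- `⟨Ω₁Z(T)^P⟩ ⟨V^P⟩` -/
def YG (T P V : Subgroup G) : Subgroup G := zl T P ⊔ ⨆ x : P, cj (x : G) V

theorem zl_le_YG (T P V : Subgroup G) : zl T P ≤ YG T P V := le_sup_left

theorem V_le_YG (T P V : Subgroup G) : V ≤ YG T P V := by
  refine le_trans ?_ le_sup_right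
  have := le_iSup (fun x : P => cj (x : G) V) 1
  simpa [cj_one] using this

theorem YG_norm [Finite G] (T P V : Subgroup G) : P ≤ normalizer (YG T P V : Set G) := by
  intro g hg
  refine Cfsg.Agent.ZN.ChoiceBase.mem_normalizer_of_cj_le ?_
  have e : cj g (YG T P V) = cj g (zl T P) ⊔ ⨆ x : P, cj g (cj (x : G) V) := by
    unfold YG
    rw [cj, Subgroup.map_sup, Subgroup.map_iSup]
  rw [e]
  refine sup_le ?_ (iSup_le fun x => ?_)
  · rw [cj_eq_of_mem_normalizer (le_normalizer_zl T P hg)]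
    exact le_sup_left
  · rw [cj_cj]
    exact (le_iSup (fun x : P => cj (x : G) V) ⟨g * x, mul_mem hg x.2⟩).trans le_sup_right

variable {ι : Type v} [Finite G] [Finite ι] [Nonempty ι] {S : Sylow 2 G} {V : Subgroup G} {N l E : ι → Subgroup G}
  {P A : Subgroup G} {i j : ι}

/-- the frame facts -/
theorem typ0 (h : TFm S V N l E) (three : ∀ i j : ι, ∃ k, k ≠ i ∧ k ≠ j) :
    Typ0 (TT (S : Subgroup G) N) (TAct.FF (S : Subgroup G) N l) N :=
  (toTf h).typ0 three h.EN h.EC h.irr h.ord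

theorem Y_le_X (h : TFm S V N l E) (three : ∀ i j : ι, ∃ k, k ≠ i ∧ k ≠ j)
    (hPY : P ≤ YY (TAct.FF (S : Subgroup G) N l) j) (i : ι) : YG (TT (S : Subgroup G) N) P (N j) ≤
      XS (zc (TT (S : Subgroup G) N)) (XF (TAct.FF (S : Subgroup G) N l) i j) :=
  sup_le ((typ0 h three).zl_le_X i hPY) (iSup_le fun x => cj_N_le h (Or.inr rfl) (hPY x.2))

theorem Y_eab (h : TFm S V N l E) (hc : IsCharacteristicTwoType G) (three : ∀ i j : ι, ∃ k, k ≠ i ∧ k ≠ j)
    (hPY : P ≤ YY (TAct.FF (S : Subgroup G) N l) j) : IsElementaryAbelian 2 (YG (TT (S : Subgroup G) N) P (N j)) := by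
  obtain ⟨i, hi⟩ := (typ0 h three).exists_ne j
  exact eab_mono ((typ0 h three).eab_X hc hi) (Y_le_X h three hPY i)

theorem Y_le_O (h : TFm S V N l E) (hc : IsCharacteristicTwoType G) (three : ∀ i j : ι, ∃ k, k ≠ i ∧ k ≠ j)
    (hPY : P ≤ YY (TAct.FF (S : Subgroup G) N l) j) :
    YG (TT (S : Subgroup G) N) P (N j) ≤ OT (TT (S : Subgroup G) N) := by
  obtain ⟨i, hi⟩ := (typ0 h three).exists_ne j
  exact (Y_le_X h three hPY i).trans ((typ0 h three).X_le_O hc hi)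

theorem Y_le_T (h : TFm S V N l E) (hc : IsCharacteristicTwoType G) (three : ∀ i j : ι, ∃ k, k ≠ i ∧ k ≠ j)
    (hPY : P ≤ YY (TAct.FF (S : Subgroup G) N l) j) :
    YG (TT (S : Subgroup G) N) P (N j) ≤ TT (S : Subgroup G) N :=
  (Y_le_O h hc three hPY).trans ((typ0 h three).o2_CZ_le j)

/-- **the input of [O]** -/
theorem inT_of (h : TFm S V N l E) (hc : IsCharacteristicTwoType G) (three : ∀ i j : ι, ∃ k, k ≠ i ∧ k ≠ j)
    (hP : IsMinPar (TT (S : Subgroup G) N) P) (hPY : P ≤ YY (TAct.FF (S : Subgroup G) N l) j)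
    (hmv : ¬ P ≤ centralizer (TAct.FF (S : Subgroup G) N l j : Set G))
    (hA : Mx (OT (TT (S : Subgroup G) N)) A) (hAj : ¬ A ≤ centralizer (N j : Set G))
    (hX : o2 P ≤ centralizer (N j : Set G)) :
    InT (TT (S : Subgroup G) N) P A (N j) (l j) (YG (TT (S : Subgroup G) N) P (N j)) := by
  have t := typ0 h three
  set T := TT (S : Subgroup G) N with hT
  set F := TAct.FF (S : Subgroup G) N l with hF
  have hOT : OT T ≤ T := t.o2_CZ_le j
  have AT : A ≤ T := hA.le.trans hOT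
  have hYO := Y_le_O h hc three hPY
  have hYT := Y_le_T h hc three hPY
  have hYe := Y_eab h hc three hPY
  have hY2 : ∀ x ∈ YG T P (N j), x ^ 2 = 1 := (eab_iff.1 hYe).2
  have hcz := t.inf_cent_zl hc hP hPY hmv
  have hAzl : ¬ A ≤ centralizer (zl T P : Set G) := fun h1 => hAj (by
    refine le_trans ?_ hX
    rw [← hcz]
    exact le_inf AT h1)
  have TN : T ≤ normalizer (N j : Set G) := inf_le_right.trans (iInf_le _ j)
  have TS : T ≤ (S : Subgroup G) := inf_le_left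
  have T2 : IsPGroup 2 T := (toTf h).T2
  obtain ⟨Fd, _, _, _, e, he⟩ := h.nat j
  have hAe : IsElementaryAbelian 2 A := eab_iff.2 ⟨hA.comm, hA.sq⟩
  have hthN := hA.thom ((t.V_le_O hc j)) (fun v hv => by rw [pow_two]; exact NBFacts.sq he v hv)
  have hfull : UniT.Full A (N j) (l j) :=
    (NBFacts.off he TS TN AT hAe (relIndex_le_iff.2 hthN)).resolve_left hAj
  refine ⟨t.syl_of' hP.le hPY, hP, t.char2_of hc hP.le hPY, AT, ⟨⟨fun a ha => ?_, fun a ha b hb => ?_⟩, hAzl, ?_⟩,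
    fun x hx y hy => ?_, fun x hx => ?_, zl_le_YG _ _ _, V_le_YG _ _ _, YG_norm _ _ _, fun g hg hgz => ?_,
    hA.thom hYO hY2, NBFacts.lN he, fun hle => ?_, (toTf h).T_norm_l j, comm_symm hfull.cent, hfull.inl, hfull.onA,
    hfull.onN, ?_, fun hle => hmv ?_⟩
  · rw [hA.sq a ha]; exact one_mem _
  · have h1 : a * b = b * a := (mem_centralizer_iff.1 (hA.comm ha) b hb).symm
    rw [h1, mul_inv_cancel_right, mul_inv_cancel]
    exact one_mem _
  · exact relIndex_le_iff.2 (hA.thom ((zl_le_YG _ _ _).trans hYO) fun x hx => hY2 x (zl_le_YG _ _ _ hx))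
  · exact (mem_centralizer_iff.1 ((eab_iff.1 hYe).1 hx) y hy).symm
  · rw [← pow_two]; exact hY2 x hx
  · -- `C_T(zl T P)` centralises `Y`
    have hgo : g ∈ o2 P := by rw [← hcz]; exact ⟨hg, hgz⟩
    have key : YG T P (N j) ≤ centralizer ({g} : Set G) := by
      refine sup_le (fun z hz => mem_centralizer_singleton_iff.2 (mem_centralizer_iff.1 hgz z hz)) (iSup_le fun x => ?_)
      intro z hz
      have h1 : (x : G)⁻¹ * g * x ∈ o2 P := by
        have := (mem_normalizer_iff.1 (le_normalizer_o2 P (inv_mem x.2)) g).1 hgo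
        rwa [inv_inv] at this
      have h2 := mem_centralizer_iff.1 (hX h1) _ (mem_cj.1 hz)
      refine mem_centralizer_singleton_iff.2 ?_
      have h3 : z * g = x * (((x : G)⁻¹ * z * x) * ((x : G)⁻¹ * g * x)) * (x : G)⁻¹ := by group
      rw [h3, h2]; group
    exact mem_centralizer_iff.2 fun z hz => mem_centralizer_singleton_iff.1 (key hz)
  · -- `N j ≰ l j`
    obtain ⟨v, hv, hve⟩ := he.sur ![0, 1]
    have h1 := ((he.line v).1 (hle hv)).2
    rw [hve] at h1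
    exact one_ne_zero h1
  · have h1 := NBFacts.no he TS TN AT (NBFacts.elemM_of hAe)
    have h2 := (relIndex_le_iff (V := A) (A := N j) (B := centralizer (A : Set G)) (D := centralizer (N j : Set G))).1 h1
    exact h2
  · -- `l j ≰ cv T P`
    have h1 : F j ≤ cv T P := (inf_le_left : F j ≤ l j).trans hle
    have h2 := TTn.DiCoreAbs.oddGen_sup hP.le (t.syl_of hP.le hPY)
    rw [← h2]
    exact sup_le (comm_symm (h1.trans inf_le_right)) (t.TC j)

end Cfsg.Agent.Omega.NOThreeL.RWide.ParA.Glue
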