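import Cfsg.Agent.Mrg.Omega.NO3S.Pas.Inst
import Cfsg.Agent.Mrg.Omega.F4.Split
import Cfsg.Agent.Mrg.Omega.SQ1.FFKNat
import Cfsg.Agent.Mrg.Omega.SQ1.Choice
import Cfsg.Agent.Mrg.Omega.NO3b.EZeroBase
import Cfsg.Agent.Mrg.Omega.FF.GlobEnd

section


/-!
# `par` over `T`, active case (helper506 #27090), piece [O]: ONE BLOCK

`P` a minimal parabolic over its Sylow group `T`, `U = zl T P`, `D = cv T P`, `M : NatKM F T P U D k`; `A ≤ T` an exact
offender on `U`, `Y ≥ U` a `P`-invariant elementary abelian group centralised by `C_T(U)` on which `A` is not an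
over-offender, `V ≤ Y` a natural module for `A` (`R = [v, A] = [V, a]`), `R` normalised by `T`.

* `InO` : the input; `InO.one` : `k = 1`, `A` is the root group;
* `InO.UV`, `InO.comm`, `InO.R_U`, `InO.R_D` : `Y = V C_Y(A)`, `[Y, A] = R ≤ U`, `R ∩ D = 1`.
-/

set_option autoImplicit false
set_option linter.unusedSectionVars false

namespace Cfsg.Agent.Omega.NOThreeL.RWide.ParA

open Subgroup Cfsg Cfsg.Agent.ZN Cfsg.Agent.ZN.ChoiceBase Cfsg.Agent.Omega.MinPar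
open Cfsg.Agent.Omega.FFThm (ElemM OffM NoOverM NatKM ActsSL relIndex_le_iff)
open Cfsg.Agent.Omega.NatPair (ap ap_mul ap_one ap_inv_ap ap_zero' ap_one' ext2 exists_ap)
open Cfsg.Agent.Omega.NOThreeL.NF.NatR (Const ap_up ap_lo)
open Cfsg.Agent.Omega.NO3S.SOne.NatD
open Cfsg.Agent.Lib.SL2Mat
open scoped commutatorElement Pointwise

universe u

variable {G : Type u} [Group G]

/-- `|Y : C_Y(A)| ≤ |X : C_X(A)|` for `X ≤ Y` gives `Y = X C_Y(A)`. -/
theorem mul_of_rel [Finite G] {X Y A : Subgroup G} (hXY : X ≤ Y) (hab : ∀ x ∈ Y, ∀ y ∈ Y, x * y = y * x)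
    (h : (centralizer (A : Set G)).relIndex Y ≤ (centralizer (A : Set G)).relIndex X) {y : G} (hy : y ∈ Y) :
    ∃ x ∈ X, ∃ c ∈ Y ⊓ centralizer (A : Set G), y = x * c := by
  have hc : Y ⊓ centralizer (A : Set G) ≤ centralizer (X : Set G) := fun c hc =>
    mem_centralizer_iff.2 fun x hx => hab x (hXY hx) c hc.1
  have h1 := Cfsg.Agent.PLocal.ElemAbSup.card_sup_mul_card_inf hc
  have e1 : X ⊓ (Y ⊓ centralizer (A : Set G)) = X ⊓ centralizer (A : Set G) := by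
    rw [← inf_assoc, inf_eq_left.2 hXY]
  rw [e1, ← NOThreeL.Star.rel_mul_card X (centralizer (A : Set G))] at h1
  have h0 : 0 < Nat.card ↥(X ⊓ centralizer (A : Set G)) := Nat.card_pos
  have h2 : Nat.card ↥(X ⊔ (Y ⊓ centralizer (A : Set G)) : Subgroup G) =
      (centralizer (A : Set G)).relIndex X * Nat.card ↥(Y ⊓ centralizer (A : Set G)) := by
    refine Nat.eq_of_mul_eq_mul_right h0 ?_
    rw [h1]; ring
  have h3 : Y ≤ X ⊔ (Y ⊓ centralizer (A : Set G)) := by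
    have hle : X ⊔ (Y ⊓ centralizer (A : Set G)) ≤ Y := sup_le hXY inf_le_left
    refine (Subgroup.eq_of_le_of_card_ge hle ?_).ge
    rw [h2, ← NOThreeL.Star.rel_mul_card Y (centralizer (A : Set G))]
    exact Nat.mul_le_mul_right _ h
  have h4 := h3 hy
  have h5 : (y : G) ∈ ((X ⊔ (Y ⊓ centralizer (A : Set G)) : Subgroup G) : Set G) := h4
  rw [Cfsg.Agent.PLocal.ElemAbSup.coe_sup_of_le_centralizer hc] at h5
  obtain ⟨x, hx, c, hc', e⟩ := Set.mem_mul.1 h5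
  exact ⟨x, hx, c, hc', e.symm⟩

/-- **The input of [O]** (helper506 #27090). -/
structure InO (T P U D A V R Y : Subgroup G) : Prop where
  amb : AmbD T P U D
  AT : A ≤ T
  off : OffM U A
  ex : (centralizer (U : Set G)).relIndex A ≤ (centralizer (A : Set G)).relIndex U
  ab : ∀ x ∈ Y, ∀ y ∈ Y, x * y = y * x
  sq : ∀ x ∈ Y, x * x = 1
  UY : U ≤ Y
  VY : V ≤ Y
  PY : P ≤ normalizer (Y : Set G)
  QY : ∀ g ∈ T, g ∈ centralizer (U : Set G) → g ∈ centralizer (Y : Set G)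
  th : (centralizer (A : Set G)).relIndex Y ≤ (centralizer (Y : Set G)).relIndex A
  RV : R ≤ V
  VR : ¬ V ≤ R
  RT : T ≤ normalizer (R : Set G)
  RA : R ≤ centralizer (A : Set G)
  AV : ∀ a ∈ A, ∀ v ∈ V, a * v * a⁻¹ * v⁻¹ ∈ R
  vA : ∀ v ∈ V, v ∉ R → ∀ r ∈ R, ∃ a ∈ A, a * v * a⁻¹ * v⁻¹ = r
  aV : ∀ a ∈ A, a ∉ centralizer (V : Set G) → ∀ r ∈ R, ∃ v ∈ V, a * v * a⁻¹ * v⁻¹ = r
  card : (centralizer (V : Set G)).relIndex A ≤ (centralizer (A : Set G)).relIndex V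
  nD : ¬ R ≤ D

namespace InO

variable {F : Type} [Field F] {T P U D A V R Y : Subgroup G} {k : ℕ}

theorem cm_eq (h : InO T P U D A V R Y) {a u c : G} (ha : a ∈ A) (hu : u ∈ Y) (hc : c ∈ Y ⊓ centralizer (A : Set G)) :
    a * (u * c) * a⁻¹ * (u * c)⁻¹ = a * u * a⁻¹ * u⁻¹ := by
  have h1 : a * c = c * a := mem_centralizer_iff.1 hc.2 a ha
  have h2 : c * (a * u * a⁻¹) = a * u * a⁻¹ * c := h.ab _ hc.1 _ ((mem_normalizer_iff.1
    (h.PY (h.amb.SP (h.AT ha))) u).1 hu)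
  calc a * (u * c) * a⁻¹ * (u * c)⁻¹ = a * u * (c * a⁻¹) * c⁻¹ * u⁻¹ := by group
    _ = a * u * (a⁻¹ * c) * c⁻¹ * u⁻¹ := by
        rw [show c * a⁻¹ = a⁻¹ * (a * c) * a⁻¹ by group, h1]; group
    _ = a * u * a⁻¹ * u⁻¹ := by group

/-- `C_A(U) = C_A(Y)` -/
theorem rel_Y (h : InO T P U D A V R Y) :
    (centralizer (Y : Set G)).relIndex A = (centralizer (U : Set G)).relIndex A := by
  have e : centralizer (Y : Set G) ⊓ A = centralizer (U : Set G) ⊓ A := by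
    ext a
    constructor
    · exact fun ha => ⟨centralizer_le (by exact_mod_cast h.UY) ha.1, ha.2⟩
    · exact fun ha => ⟨h.QY a (h.AT ha.2) ha.1, ha.2⟩
  rw [← inf_relIndex_right, e, inf_relIndex_right]

/-- `Y = U C_Y(A)` -/
theorem split_U [Finite G] (h : InO T P U D A V R Y) {y : G} (hy : y ∈ Y) :
    ∃ x ∈ U, ∃ c ∈ Y ⊓ centralizer (A : Set G), y = x * c :=
  mul_of_rel h.UY h.ab ((h.th.trans h.rel_Y.le).trans h.ex) hy

variable (M : NatKM F T P U D k)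

/-- coordinates of a commutator -/
theorem e_cm (h : InO T P U D A V R Y) {a u : G} (ha : a ∈ A) (hu : u ∈ U) {b : Fin k → F}
    (hb : ActsSL M.e U D a fun i => up (b i)) (i : Fin k) : M.e (a * u * a⁻¹ * u⁻¹) i = ![b i * M.e u i 1, 0] := by
  rw [M.mul _ (h.amb.cm (h.amb.SP (h.AT ha)) hu) _ (inv_mem hu), e_inv hu, Pi.add_apply, Pi.neg_apply, hb.1 u hu i, ap_up]
  exact ext2 (by simp) (by simp)

/-- **one block** -/
theorem one [Finite G] [Finite F] (h : InO T P U D A V R Y) : k = 1 ∧ ∃ i, One M A i := by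
  classical
  obtain ⟨I, h1, h2⟩ := M.offM A h.AT h.off
  obtain ⟨v, hv, hvR⟩ := SetLike.not_le_iff_exists.1 h.VR
  obtain ⟨u, hu, c, hc, e⟩ := h.split_U (h.VY hv)
  have hR : ∀ r ∈ R, ∃ a ∈ A, a * u * a⁻¹ * u⁻¹ = r := by
    intro r hr
    obtain ⟨a, ha, har⟩ := h.vA v hv hvR r hr
    refine ⟨a, ha, ?_⟩
    rw [← har, e, h.cm_eq ha (h.UY hu) hc]
  -- some `r ∈ R` has nonzero coordinates
  obtain ⟨r0, hr0, hr0D⟩ := SetLike.not_le_iff_exists.1 h.nD
  have hRU : R ≤ U := fun r hr => by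
    obtain ⟨a, ha, rfl⟩ := hR r hr
    exact mul_mem (h.amb.cm (h.amb.SP (h.AT ha)) hu) (inv_mem hu)
  obtain ⟨i0, hi0⟩ : ∃ i, M.e r0 i ≠ 0 := by
    by_contra hcon
    push Not at hcon
    exact hr0D ((M.ker r0 (hRU hr0)).1 (funext hcon))
  -- every block
  have hall : ∀ j, ∃ r ∈ R, M.e r j ≠ 0 := by
    intro j
    obtain ⟨t, ht, htj⟩ := M.trans i0 j
    exact ⟨t * r0 * t⁻¹, (mem_normalizer_iff.1 (h.RT ht) r0).1 hr0, fun h3 => hi0 ((htj r0 (hRU hr0)).1 h3)⟩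
  have hI : ∀ j, j ∈ I ∧ M.e u j 1 ≠ 0 := by
    intro j
    obtain ⟨r, hr, hrj⟩ := hall j
    obtain ⟨a, ha, rfl⟩ := hR r hr
    obtain ⟨b, hb, hab⟩ := h1 a ha
    rw [h.e_cm M ha hu hab] at hrj
    refine ⟨?_, ?_⟩
    · by_contra hj
      apply hrj
      rw [hb j hj, zero_mul]
      exact ext2 rfl rfl
    · intro h3
      apply hrj
      rw [h3, mul_zero]
      exact ext2 rfl rfl
  have hk : ∀ i j : Fin k, i = j := by
    intro i j
    by_contra hne
    obtain ⟨a, ha, hab⟩ := h2 (Pi.single i 1) (fun l hl => absurd (hI l).1 hl)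
    have h3 : M.e (a * u * a⁻¹ * u⁻¹) i ≠ 0 := by
      rw [h.e_cm M ha hu hab, Pi.single_eq_same, one_mul]
      intro h4
      exact (hI i).2 (congrFun h4 0)
    have haV : a ∉ centralizer (V : Set G) := by
      intro h4
      apply h3
      have h5 : a * v * a⁻¹ * v⁻¹ = 1 := by
        rw [← mem_centralizer_iff.1 h4 v hv]; group
      rw [e, h.cm_eq ha (h.UY hu) hc] at h5
      rw [h5, e_one]; rfl
    obtain ⟨r, hr, hrj⟩ := hall j
    obtain ⟨v', hv', hvr⟩ := h.aV a ha haV r hr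
    obtain ⟨u', hu', c', hc', e'⟩ := h.split_U (h.VY hv')
    rw [e', h.cm_eq ha (h.UY hu') hc'] at hvr
    rw [← hvr, h.e_cm M ha hu' hab, Pi.single_eq_of_ne (Ne.symm hne), zero_mul] at hrj
    exact hrj (ext2 rfl rfl)
  have hk1 : k = 1 := by
    have h3 : k ≤ 1 := by
      by_contra h4
      push Not at h4
      have := hk ⟨0, by omega⟩ ⟨1, h4⟩
      simp at this
    have := i0.2
    omega
  exact ⟨hk1, i0, One.of_single h.amb h.AT (hI i0).1 (fun j _ => hk j i0) h1 h2⟩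

end InO

end Cfsg.Agent.Omega.NOThreeL.RWide.ParA

end

section


/-!
# `par` over `T`, active case (helper506 #27090), piece [O]: the block `W = R R^x`

`M : NatKM F T P U D 1`, `A` the root group.

* `InO.RU`, `InO.split_V`, `InO.comm_Y`, `InO.cc` : `R ≤ U`, `Y = V C_Y(A)`, `[Y, A] = R = [y, A]` for `y ∉ C(A)`;
* `OutO` : the output; `InO.out`.
-/

set_option autoImplicit false
set_option linter.unusedSectionVars false

namespace Cfsg.Agent.Omega.NOThreeL.RWide.ParA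

open Subgroup Cfsg Cfsg.Agent.ZN Cfsg.Agent.ZN.ChoiceBase Cfsg.Agent.Omega.MinPar
open Cfsg.Agent.ZN.ChoiceSit (Syl)
open Cfsg.Agent.Omega.FFThm (ElemM OffM NoOverM NatKM ActsSL relIndex_le_iff)
open Cfsg.Agent.Omega.NatPair (ap ap_mul ap_one ap_inv_ap ap_zero' ap_one' ext2 exists_ap)
open Cfsg.Agent.Omega.NOThreeL.NF.NatR (Const ap_up ap_lo)
open Cfsg.Agent.Omega.NO3S.SOne.NatD
open Cfsg.Agent.Lib.SL2Mat
open scoped commutatorElement Pointwise

universe u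

variable {G : Type u} [Group G]

theorem conj_mem_iff {g x : G} {H : Subgroup G} : g * x * g⁻¹ ∈ cj g H ↔ x ∈ H := by
  rw [mem_cj]
  have e : g⁻¹ * (g * x * g⁻¹) * g = x := by group
  rw [e]

/-- Sylow's theorem -/
theorem exists_conj_mem [Finite G] {T P : Subgroup G} (hT : Syl T P) {g : G} (hg : g ∈ P)
    (h2 : IsPGroup 2 (zpowers g)) : ∃ p ∈ P, p * g * p⁻¹ ∈ T := by
  have hp : Fact (Nat.Prime 2) := ⟨Nat.prime_two⟩
  obtain ⟨R, hR⟩ := (hT.2.1.comap_subtype (K := P)).exists_le_sylow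
  have hTU : ∀ t : P, t ∈ R → (t : G) ∈ T := by
    intro t ht
    have h1 := hT.2.2 ((R : Subgroup P).map P.subtype) (map_subtype_le _) (R.isPGroup'.map _) (fun u hu =>
      ⟨⟨u, hT.1 hu⟩, hR (mem_subgroupOf.2 hu), rfl⟩)
    rw [← h1]
    exact ⟨t, ht, rfl⟩
  obtain ⟨Q, hQ⟩ := (h2.comap_subtype (K := P)).exists_le_sylow
  obtain ⟨p, hp'⟩ := MulAction.exists_smul_eq P Q R
  refine ⟨p, p.2, ?_⟩
  have h1 : (⟨g, hg⟩ : P) ∈ Q := hQ (mem_subgroupOf.2 (mem_zpowers g))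
  have h3 : p * (⟨g, hg⟩ : P) * p⁻¹ ∈ (R : Subgroup P) := by
    rw [← hp']
    exact smul_mem_pointwise_smul _ (MulAut.conj p) _ h1
  exact hTU _ h3

namespace InO

variable {F : Type} [Field F] {T P U D A V R Y : Subgroup G}

theorem exists_v (h : InO T P U D A V R Y) : ∃ v ∈ V, v ∉ R := SetLike.not_le_iff_exists.1 h.VR

theorem R_ne (h : InO T P U D A V R Y) : ∃ r ∈ R, r ≠ 1 := by
  by_contra hcon
  push Not at hcon
  exact h.nD fun r hr => by rw [hcon r hr]; exact one_mem _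

/-- a vector of `U` with `[u, A] = R` -/
theorem exists_u [Finite G] (h : InO T P U D A V R Y) : ∃ u ∈ U, u ∉ centralizer (A : Set G) ∧
    (∀ r ∈ R, ∃ a ∈ A, a * u * a⁻¹ * u⁻¹ = r) ∧ (∀ a ∈ A, a * u * a⁻¹ * u⁻¹ ∈ R) ∧
      ∀ a ∈ A, a ∈ centralizer (V : Set G) → a * u = u * a := by
  obtain ⟨v, hv, hvR⟩ := h.exists_v
  obtain ⟨u, hu, c, hc, e⟩ := h.split_U (h.VY hv)
  have h1 : ∀ r ∈ R, ∃ a ∈ A, a * u * a⁻¹ * u⁻¹ = r := by
    intro r hr
    obtain ⟨a, ha, har⟩ := h.vA v hv hvR r hr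
    refine ⟨a, ha, ?_⟩
    rw [← har, e, h.cm_eq ha (h.UY hu) hc]
  refine ⟨u, hu, ?_, h1, fun a ha => ?_, fun a ha hac => ?_⟩
  · intro huc
    obtain ⟨r, hr, hr1⟩ := h.R_ne
    obtain ⟨a, ha, har⟩ := h1 r hr
    apply hr1
    rw [← har, mem_centralizer_iff.1 huc a ha]; group
  · have h2 := h.AV a ha v hv
    rwa [e, h.cm_eq ha (h.UY hu) hc] at h2
  · have h2 : a * v * a⁻¹ * v⁻¹ = 1 := by
      rw [← mem_centralizer_iff.1 hac v hv]; group
    rw [e, h.cm_eq ha (h.UY hu) hc] at h2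
    exact mul_inv_eq_iff_eq_mul.1 (mul_inv_eq_one.1 h2)

theorem RU [Finite G] (h : InO T P U D A V R Y) : R ≤ U := by
  obtain ⟨u, hu, -, h1, -⟩ := h.exists_u
  intro r hr
  obtain ⟨a, ha, rfl⟩ := h1 r hr
  exact mul_mem (h.amb.cm (h.amb.SP (h.AT ha)) hu) (inv_mem hu)

variable {M : NatKM F T P U D 1}

/-- `C_A(V) = C_A(U)` -/
theorem cent_V [Finite G] [Finite F] (h : InO T P U D A V R Y) (o : One M A 0) {a : G} (ha : a ∈ A) :
    a ∈ centralizer (V : Set G) ↔ a ∈ centralizer (U : Set G) := by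
  constructor
  · intro hac
    obtain ⟨u, hu, huA, -, -, h2⟩ := h.exists_u
    exact o.cent h.amb h.off hu huA ha (h2 a ha hac)
  · intro hac
    exact centralizer_le (by exact_mod_cast h.VY) (h.QY a (h.AT ha) hac)

/-- `Y = V C_Y(A)` -/
theorem split_V [Finite G] [Finite F] (h : InO T P U D A V R Y) (o : One M A 0) {y : G} (hy : y ∈ Y) :
    ∃ x ∈ V, ∃ c ∈ Y ⊓ centralizer (A : Set G), y = x * c := by
  refine mul_of_rel h.VY h.ab ?_ hy
  refine ((h.th.trans h.rel_Y.le).trans (le_of_eq ?_)).trans h.card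
  have e : centralizer (U : Set G) ⊓ A = centralizer (V : Set G) ⊓ A := by
    ext a
    constructor
    · exact fun ha => ⟨(h.cent_V o ha.2).2 ha.1, ha.2⟩
    · exact fun ha => ⟨(h.cent_V o ha.2).1 ha.1, ha.2⟩
  rw [← inf_relIndex_right, e, inf_relIndex_right]

/-- `[Y, A] ≤ R` -/
theorem comm_Y [Finite G] [Finite F] (h : InO T P U D A V R Y) (o : One M A 0) {a y : G} (ha : a ∈ A) (hy : y ∈ Y) :
    a * y * a⁻¹ * y⁻¹ ∈ R := by
  obtain ⟨v, hv, c, hc, rfl⟩ := h.split_V o hy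
  rw [h.cm_eq ha (h.VY hv) hc]
  exact h.AV a ha v hv

/-- `[y, A] = R` for `y ∈ Y - C(A)` -/
theorem cc [Finite G] [Finite F] (h : InO T P U D A V R Y) (o : One M A 0) {y : G} (hy : y ∈ Y)
    (hyA : y ∉ centralizer (A : Set G)) : ∀ r ∈ R, ∃ a ∈ A, a * y * a⁻¹ * y⁻¹ = r := by
  obtain ⟨v, hv, c, hc, rfl⟩ := h.split_V o hy
  intro r hr
  have hvR : v ∉ R := fun h1 => hyA (mul_mem (h.RA h1) hc.2)
  obtain ⟨a, ha, har⟩ := h.vA v hv hvR r hr
  exact ⟨a, ha, by rw [h.cm_eq ha (h.VY hv) hc]; exact har⟩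

theorem e_R [Finite G] [Finite F] (h : InO T P U D A V R Y) (o : One M A 0) {r : G} (hr : r ∈ R) : M.e r 0 1 = 0 :=
  o.zero_of_cent (h.RU hr) (h.RA hr)

/-- `R ⊓ D = 1` -/
theorem R_D [Finite G] [Finite F] (h : InO T P U D A V R Y) (o : One M A 0) {r : G} (hr : r ∈ R)
    (h0 : M.e r 0 0 = 0) : r = 1 := by
  obtain ⟨u, hu, huA, h1, -⟩ := h.exists_u
  obtain ⟨a, ha, rfl⟩ := h1 r hr
  obtain ⟨c, hc⟩ := o.acts a ha
  have h2 := e_comm h.amb (h.amb.SP (h.AT ha)) hc hu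
  rw [h2] at h0
  have h3 : c * M.e u 0 1 = 0 := h0
  rcases mul_eq_zero.1 h3 with h4 | h4
  · rw [h4] at hc
    have h5 := cent_of_zero h.amb (h.amb.SP (h.AT ha)) hc
    rw [← mem_centralizer_iff.1 h5 u hu]; group
  · exact absurd ((o.cent_iff h.amb h.off hu).2 h4) huA

/-- `e` maps `R` onto the line -/
theorem R_sur [Finite G] [Finite F] (h : InO T P U D A V R Y) (o : One M A 0) (c : F) :
    ∃ r ∈ R, M.e r 0 = ![c, 0] := by
  obtain ⟨u, hu, huA, -, h1, -⟩ := h.exists_u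
  have hu1 : M.e u 0 1 ≠ 0 := fun h2 => huA ((o.cent_iff h.amb h.off hu).2 h2)
  obtain ⟨a, ha, hac⟩ := o.ex (c * (M.e u 0 1)⁻¹)
  refine ⟨_, h1 a ha, ?_⟩
  rw [e_comm h.amb (h.amb.SP (h.AT ha)) hac hu, mul_assoc, inv_mul_cancel₀ hu1, mul_one]

end InO

end Cfsg.Agent.Omega.NOThreeL.RWide.ParA

end

section


/-!
# `par` over `T`, active case (helper506 #27090), piece [O]: the block `W = R R^x` (end)

* `OutO` : the output; `InO.out`.
-/

set_option autoImplicit false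
set_option linter.unusedSectionVars false

namespace Cfsg.Agent.Omega.NOThreeL.RWide.ParA

open Subgroup Cfsg Cfsg.Agent.ZN Cfsg.Agent.ZN.ChoiceBase Cfsg.Agent.Omega.MinPar
open Cfsg.Agent.ZN.ChoiceSit (Syl)
open Cfsg.Agent.Omega.FFThm (ElemM OffM NoOverM NatKM ActsSL relIndex_le_iff)
open Cfsg.Agent.Omega.NatPair (ap ap_mul ap_one ap_inv_ap ap_zero' ap_one' ext2 exists_ap)
open Cfsg.Agent.Omega.NOThreeL.NF.NatR (Const ap_up ap_lo)
open Cfsg.Agent.Omega.NO3S.SOne.NatD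
open Cfsg.Agent.Lib.SL2Mat
open scoped commutatorElement Pointwise

universe u

variable {G : Type u} [Group G]

/-- the Weyl element -/
def ww (F : Type) [Field F] : Matrix.SpecialLinearGroup (Fin 2) F := wm 1 one_ne_zero

section mat

variable {F : Type} [Field F]

theorem ap_ww (x : Fin 2 → F) : ap (ww F) x = ![x 1, - x 0] := by
  refine ext2 ?_ ?_
  · rw [ap_zero']; simp [ww]
  · rw [ap_one']; simp [ww]

theorem ww_up (c : F) : ww F * up c * (ww F)⁻¹ = lo (-c) := by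
  rw [mul_inv_eq_iff_eq_mul]
  refine ext_ent ?_ ?_ ?_ ?_ <;> simp [ent_mul, ww]

/-- a subgroup of `SL₂(F)` which contains `up c`, `lo c` is everything -/
theorem mem_of_up_lo (H : Subgroup (Matrix.SpecialLinearGroup (Fin 2) F)) (h1 : ∀ c, up c ∈ H) (h2 : ∀ c, lo c ∈ H)
    (x : Matrix.SpecialLinearGroup (Fin 2) F) : x ∈ H := by
  have key : ∀ x : Matrix.SpecialLinearGroup (Fin 2) F, ent x 1 0 ≠ 0 → x ∈ H := by
    intro x hx
    rw [eq_up_lo_up x hx]
    exact mul_mem (mul_mem (h1 _) (h2 _)) (h1 _)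
  by_cases hx : ent x 1 0 = 0
  · have h3 : ent x 1 1 ≠ 0 := by
      intro h4
      have h5 := det_eq x
      rw [hx, h4] at h5
      simp at h5
    have h4 : ent (x * lo 1) 1 0 ≠ 0 := by
      rw [ent_mul, hx]
      simpa using h3
    have h5 := mul_mem (key _ h4) (inv_mem (h2 1))
    rwa [mul_inv_cancel_right] at h5
  · exact key x hx

end mat

/-- **The output of [O].** -/
structure OutO (P U A R Y W K : Subgroup G) (x : G) (F : Type) [Field F] (f : G → Fin 2 → F) : Prop where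
  xP : x ∈ P
  W_eq : W = R ⊔ cj x R
  RU : R ≤ U
  WU : W ≤ U
  PW : P ≤ normalizer (W : Set G)
  AK : A ≤ K
  KP : K ≤ P
  PK : P ≤ normalizer (K : Set G)
  comm : ∀ a ∈ A, ∀ y ∈ Y, a * y * a⁻¹ * y⁻¹ ∈ R
  cc : ∀ y ∈ Y, y ∉ centralizer (A : Set G) → ∀ r ∈ R, ∃ a ∈ A, a * y * a⁻¹ * y⁻¹ = r
  commK : ∀ g ∈ K, ∀ y ∈ Y, g * y * g⁻¹ * y⁻¹ ∈ W
  mul : ∀ v ∈ W, ∀ w ∈ W, f (v * w) = f v + f w
  inj : ∀ v ∈ W, f v = 0 → v = 1
  sur : ∀ y : Fin 2 → F, ∃ v ∈ W, f v = y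
  line : ∀ v ∈ W, v ∈ R ↔ f v 1 = 0
  upa : ∀ a ∈ A, ∃ c : F, ∀ v ∈ W, f (a * v * a⁻¹) = ap (up c) (f v)
  ups : ∀ c : F, ∃ a ∈ A, ∀ v ∈ W, f (a * v * a⁻¹) = ap (up c) (f v)
  act : ∀ g ∈ K, ∃ B : Matrix.SpecialLinearGroup (Fin 2) F, ∀ v ∈ W, f (g * v * g⁻¹) = ap B (f v)
  full : ∀ B : Matrix.SpecialLinearGroup (Fin 2) F, ∃ g ∈ A ⊔ cj x A, ∀ v ∈ W, f (g * v * g⁻¹) = ap B (f v)
  BK : ∀ g ∈ K, ∃ b ∈ A ⊔ cj x A, b⁻¹ * g ∈ centralizer (Y : Set G)
  KU : ∀ g ∈ K, g ∈ centralizer (U : Set G) → g ∈ centralizer (Y : Set G)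
  split : ∀ y ∈ Y, ∃ w ∈ W, ∃ c ∈ Y ⊓ centralizer (K : Set G), y = w * c
  dis : W ⊓ centralizer (K : Set G) = ⊥

namespace InO

variable {F : Type} [Field F] {T P U D A V R Y : Subgroup G} {M : NatKM F T P U D 1}

theorem one_eq (A : Matrix.SpecialLinearGroup (Fin 2) F) :
    (Pi.mulSingle 0 A : Fin 1 → Matrix.SpecialLinearGroup (Fin 2) F) = fun _ => A := by
  funext i
  rw [Subsingleton.elim i 0, Pi.mulSingle_eq_same]

theorem const_mul (A B : Matrix.SpecialLinearGroup (Fin 2) F) :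
    ((fun _ => A : Fin 1 → Matrix.SpecialLinearGroup (Fin 2) F) * fun _ => B) = fun _ => A * B := rfl

theorem const_inv (A : Matrix.SpecialLinearGroup (Fin 2) F) :
    ((fun _ => A : Fin 1 → Matrix.SpecialLinearGroup (Fin 2) F))⁻¹ = fun _ => A⁻¹ := rfl

theorem out [Finite G] [Finite F] (h : InO T P U D A V R Y) (o : One M A 0) (hT : Syl T P) :
    ∃ (W K : Subgroup G) (x : G), OutO P U A R Y W K x F (fun g => M.e g 0) := by
  have hA := h.amb
  have AP : A ≤ P := h.AT.trans hA.SP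
  have RU := h.RU
  -- the Weyl element
  obtain ⟨x, hx, hxw⟩ := M.lift fun _ => ww F
  have hxi := act_inv (M := M) hA hx hxw
  set W : Subgroup G := R ⊔ cj x R with hW
  have cjU : ∀ {g : G}, g ∈ P → cj g U = U := fun hg => cj_eq_of_mem_normalizer (hA.PV hg)
  have cjY : ∀ {g : G}, g ∈ P → cj g Y = Y := fun hg => cj_eq_of_mem_normalizer (h.PY hg)
  have RxU : cj x R ≤ U := by rw [← cjU hx]; exact cj_mono x RU
  have WU : W ≤ U := sup_le RU RxU
  have cmY : ∀ {g y : G}, g ∈ P → y ∈ Y → g * y * g⁻¹ ∈ Y := fun hg hy => (mem_normalizer_iff.1 (h.PY hg) _).1 hy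
  -- the elements of `W`
  have memW : ∀ w ∈ W, ∃ r ∈ R, ∃ r' ∈ R, w = r * (x * r' * x⁻¹) := by
    intro w hw
    have hc : cj x R ≤ centralizer (R : Set G) := fun c hc =>
      mem_centralizer_iff.2 fun r hr => h.ab r (h.UY (RU hr)) c (h.UY (RxU hc))
    have h5 : (w : G) ∈ ((R ⊔ cj x R : Subgroup G) : Set G) := hw
    rw [Cfsg.Agent.PLocal.ElemAbSup.coe_sup_of_le_centralizer hc] at h5
    obtain ⟨r, hr, c, hc', e⟩ := Set.mem_mul.1 h5
    refine ⟨r, hr, x⁻¹ * c * x, mem_cj.1 hc', ?_⟩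
    rw [← e]; group
  have eRx : ∀ r ∈ R, M.e (x * r * x⁻¹) 0 = ![0, - M.e r 0 0] := by
    intro r hr
    rw [hxw.1 r (RU hr) 0, ap_ww, h.e_R o hr]
  have ew : ∀ r ∈ R, ∀ r' ∈ R, M.e (r * (x * r' * x⁻¹)) 0 = ![M.e r 0 0, - M.e r' 0 0] := by
    intro r hr r' hr'
    rw [M.mul _ (RU hr) _ (hA.cm hx (RU hr')), Pi.add_apply, eRx r' hr']
    exact ext2 (by simp) (by simp [h.e_R o hr])
  have hinj : ∀ w ∈ W, M.e w 0 = 0 → w = 1 := by
    intro w hw h0
    obtain ⟨r, hr, r', hr', rfl⟩ := memW w hw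
    rw [ew r hr r' hr'] at h0
    have h1 : M.e r 0 0 = 0 := congrFun h0 0
    have h2 : - M.e r' 0 0 = 0 := congrFun h0 1
    rw [h.R_D o hr h1, h.R_D o hr' (neg_eq_zero.1 h2)]; group
  have hsur : ∀ y : Fin 2 → F, ∃ w ∈ W, M.e w 0 = y := by
    intro y
    obtain ⟨r, hr, e1⟩ := h.R_sur o (y 0)
    obtain ⟨r', hr', e2⟩ := h.R_sur o (- y 1)
    refine ⟨r * (x * r' * x⁻¹), mul_mem (mem_sup_left hr) (mem_sup_right (conj_mem_iff.2 hr')), ?_⟩
    rw [ew r hr r' hr', e1, e2]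
    exact ext2 (by simp) (by simp)
  -- `U = W D`
  have UWD : ∀ u ∈ U, ∃ w ∈ W, ∃ d ∈ D, u = w * d := by
    intro u hu
    obtain ⟨w, hw, e1⟩ := hsur (M.e u 0)
    refine ⟨w, hw, w⁻¹ * u, ?_, by group⟩
    rw [← M.ker _ (mul_mem (inv_mem (WU hw)) hu), M.mul _ (inv_mem (WU hw)) _ hu, e_inv (WU hw)]
    funext i
    rw [Subsingleton.elim i 0, Pi.add_apply, Pi.neg_apply, e1]
    exact neg_add_cancel _
  -- `B₀ = ⟨A, A^x⟩` acts as `SL₂(F)`
  set B₀ : Subgroup G := A ⊔ cj x A with hB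
  have AxP : cj x A ≤ P := by
    have e : cj x P = P := cj_eq_of_mem_normalizer (Subgroup.le_normalizer hx)
    rw [← e]; exact cj_mono x AP
  have BP : B₀ ≤ P := sup_le AP AxP
  have hup : ∀ c, ∃ a ∈ A, ActsSL M.e U D a fun _ => up c := by
    intro c
    obtain ⟨a, ha, hac⟩ := o.ex c
    rw [one_eq] at hac
    exact ⟨a, ha, hac⟩
  have hup' : ∀ a ∈ A, ∃ c, ActsSL M.e U D a fun _ => up c := by
    intro a ha
    obtain ⟨c, hac⟩ := o.acts a ha
    rw [one_eq] at hac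
    exact ⟨c, hac⟩
  have hlo : ∀ c, ∃ a ∈ cj x A, ActsSL M.e U D a fun _ => lo c := by
    intro c
    obtain ⟨a, ha, hac⟩ := hup (-c)
    refine ⟨x * a * x⁻¹, conj_mem_iff.2 ha, ?_⟩
    have h1 := act_mul (M := M) hA (inv_mem hx) (act_mul (M := M) hA (AP ha) hxw hac) hxi
    rw [const_mul, const_inv, const_mul, ww_up, neg_neg] at h1
    exact h1
  have hfull : ∀ B : Matrix.SpecialLinearGroup (Fin 2) F, ∃ b ∈ B₀, ActsSL M.e U D b fun _ => B := by
    let H : Subgroup (Matrix.SpecialLinearGroup (Fin 2) F) :=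
      { carrier := {B | ∃ b ∈ B₀, ActsSL M.e U D b fun _ => B}
        mul_mem' := by
          rintro B C ⟨b, hb, h1⟩ ⟨c, hc, h2⟩
          exact ⟨b * c, mul_mem hb hc, act_mul (M := M) hA (BP hc) h1 h2⟩
        one_mem' := ⟨1, one_mem _, act_cent (M := M) hA.DV (one_mem _)⟩
        inv_mem' := by
          rintro B ⟨b, hb, h1⟩
          exact ⟨b⁻¹, inv_mem hb, act_inv (M := M) hA (BP hb) h1⟩ }
    intro B
    refine mem_of_up_lo H (fun c => ?_) (fun c => ?_) B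
    · obtain ⟨a, ha, hac⟩ := hup c
      exact ⟨a, mem_sup_left ha, hac⟩
    · obtain ⟨a, ha, hac⟩ := hlo c
      exact ⟨a, mem_sup_right ha, hac⟩
  -- conjugates of `A`
  have hconj : ∀ g ∈ P, ∀ a ∈ A, ∃ B : Matrix.SpecialLinearGroup (Fin 2) F, ActsSL M.e U D (g * a * g⁻¹) fun _ => B := by
    intro g hg a ha
    obtain ⟨c, hac⟩ := hup' a ha
    obtain ⟨B, hBa⟩ := M.norm g hg a (AP ha) _ hac.1
    refine ⟨B 0, fun v hv i => ?_, fun d hd => ?_⟩
    · rw [hBa v hv i, Subsingleton.elim i 0]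
    · have h1 : g⁻¹ * d * g⁻¹⁻¹ ∈ D := (mem_normalizer_iff.1 (hA.PD (inv_mem hg)) d).1 hd
      have h2 := hac.2 _ h1
      calc g * a * g⁻¹ * d = g * (a * (g⁻¹ * d * g⁻¹⁻¹)) * g⁻¹ := by group
        _ = g * (g⁻¹ * d * g⁻¹⁻¹ * a) * g⁻¹ := by rw [h2]
        _ = d * (g * a * g⁻¹) := by group
  -- `[U, B₀] ≤ W`
  have hBW : ∀ b ∈ B₀, ∀ u ∈ U, b * u * b⁻¹ * u⁻¹ ∈ W := by
    let H : Subgroup G :=
      { carrier := {g | g ∈ P ∧ ∀ u ∈ U, g * u * g⁻¹ * u⁻¹ ∈ W}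
        mul_mem' := by
          rintro a b ⟨ha, ha1⟩ ⟨hb, hb1⟩
          refine ⟨mul_mem ha hb, fun u hu => ?_⟩
          have h1 := mul_mem (ha1 _ (hA.cm hb hu)) (hb1 u hu)
          have e : a * (b * u * b⁻¹) * a⁻¹ * (b * u * b⁻¹)⁻¹ * (b * u * b⁻¹ * u⁻¹) =
            a * b * u * (a * b)⁻¹ * u⁻¹ := by group
          rwa [e] at h1
        one_mem' := ⟨one_mem _, fun u _ => by simp⟩
        inv_mem' := by
          rintro a ⟨ha, ha1⟩
          refine ⟨inv_mem ha, fun u hu => ?_⟩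
          have h1 := inv_mem (ha1 _ (hA.cm (inv_mem ha) hu))
          have e : (a * (a⁻¹ * u * a⁻¹⁻¹) * a⁻¹ * (a⁻¹ * u * a⁻¹⁻¹)⁻¹)⁻¹ = a⁻¹ * u * a⁻¹⁻¹ * u⁻¹ := by group
          rwa [e] at h1 }
    have h1 : B₀ ≤ H := by
      refine sup_le (fun a ha => ⟨AP ha, fun u hu => mem_sup_left (h.comm_Y o ha (h.UY hu))⟩) fun a ha =>
        ⟨AxP ha, fun u hu => mem_sup_right ?_⟩
      rw [mem_cj] at ha ⊢
      have h2 := h.comm_Y o ha (h.UY (hA.cm (inv_mem hx) hu))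
      have e : x⁻¹ * a * x * (x⁻¹ * u * x⁻¹⁻¹) * (x⁻¹ * a * x)⁻¹ * (x⁻¹ * u * x⁻¹⁻¹)⁻¹ =
        x⁻¹ * (a * u * a⁻¹ * u⁻¹) * x := by group
      rwa [e] at h2
    exact fun b hb => (h1 hb).2
  have hgW : ∀ g ∈ P, ∀ a ∈ A, ∀ u ∈ U, (g * a * g⁻¹) * u * (g * a * g⁻¹)⁻¹ * u⁻¹ ∈ W := by
    intro g hg a ha u hu
    obtain ⟨B, hga⟩ := hconj g hg a ha
    obtain ⟨b, hb, hbB⟩ := hfull B
    have hgP : g * a * g⁻¹ ∈ P := mul_mem (mul_mem hg (AP ha)) (inv_mem hg)
    rw [conj_eq (M := M) hA hgP (BP hb) hga hbB hu]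
    exact hBW b hb u hu
  -- `P` normalises `W`
  have hRg : ∀ g ∈ P, ∀ r ∈ R, g * r * g⁻¹ ∈ W := by
    intro g hg r hr
    obtain ⟨u, hu, -, h1, -⟩ := h.exists_u
    obtain ⟨a, ha, rfl⟩ := h1 r hr
    have h2 := hgW g hg a ha _ (hA.cm hg hu)
    have e : g * a * g⁻¹ * (g * u * g⁻¹) * (g * a * g⁻¹)⁻¹ * (g * u * g⁻¹)⁻¹ =
      g * (a * u * a⁻¹ * u⁻¹) * g⁻¹ := by group
    rwa [e] at h2
  have hWg : ∀ g ∈ P, ∀ w ∈ W, g * w * g⁻¹ ∈ W := by
    intro g hg w hw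
    obtain ⟨r, hr, r', hr', rfl⟩ := memW w hw
    have h1 := mul_mem (hRg g hg r hr) (hRg (g * x) (mul_mem hg hx) r' hr')
    have e : g * r * g⁻¹ * (g * x * r' * (g * x)⁻¹) = g * (r * (x * r' * x⁻¹)) * g⁻¹ := by group
    rwa [e] at h1
  have PW : P ≤ normalizer (W : Set G) := fun g hg => mem_normalizer_iff.2 fun w => ⟨hWg g hg w, fun hw => by
    have h1 := hWg g⁻¹ (inv_mem hg) _ hw
    have e : g⁻¹ * (g * w * g⁻¹) * g⁻¹⁻¹ = w := by group
    rwa [e] at h1⟩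
  -- `K`
  set K : Subgroup G := ⨆ g : P, cj (g : G) A with hK
  have AK : A ≤ K := by
    have h1 := le_iSup (fun g : P => cj (g : G) A) 1
    simpa only [OneMemClass.coe_one, cj_one] using h1
  have AgK : ∀ g ∈ P, cj g A ≤ K := fun g hg => le_iSup (fun g : P => cj (g : G) A) ⟨g, hg⟩
  have KP : K ≤ P := iSup_le fun g =>
    (cj_mono _ AP).trans (cj_eq_of_mem_normalizer (Subgroup.le_normalizer g.2)).le
  have cjK : ∀ g ∈ P, cj g K ≤ K := by
    intro g hg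
    rw [hK, cj, Subgroup.map_iSup]
    refine iSup_le fun y => ?_
    have e : Subgroup.map (MulAut.conj g).toMonoidHom (cj (y : G) A) = cj (g * y : G) A := cj_cj g y A
    rw [e]
    exact AgK _ (mul_mem hg y.2)
  have PK : P ≤ normalizer (K : Set G) := by
    intro g hg
    rw [mem_normalizer_iff_cj]
    refine le_antisymm (cjK g hg) ?_
    have h1 := cj_mono g (cjK g⁻¹ (inv_mem hg))
    rwa [cj_cj, mul_inv_cancel, cj_one] at h1
  have BK : B₀ ≤ K := sup_le AK (AgK x hx)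
  -- `[Y, K] ≤ W`
  have hKW : ∀ g ∈ K, ∀ y ∈ Y, g * y * g⁻¹ * y⁻¹ ∈ W := by
    let H : Subgroup G :=
      { carrier := {g | g ∈ P ∧ ∀ u ∈ Y, g * u * g⁻¹ * u⁻¹ ∈ W}
        mul_mem' := by
          rintro a b ⟨ha, ha1⟩ ⟨hb, hb1⟩
          refine ⟨mul_mem ha hb, fun u hu => ?_⟩
          have h1 := mul_mem (ha1 _ (cmY hb hu)) (hb1 u hu)
          have e : a * (b * u * b⁻¹) * a⁻¹ * (b * u * b⁻¹)⁻¹ * (b * u * b⁻¹ * u⁻¹) =
            a * b * u * (a * b)⁻¹ * u⁻¹ := by group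
          rwa [e] at h1
        one_mem' := ⟨one_mem _, fun u _ => by simp⟩
        inv_mem' := by
          rintro a ⟨ha, ha1⟩
          refine ⟨inv_mem ha, fun u hu => ?_⟩
          have h1 := inv_mem (ha1 _ (cmY (inv_mem ha) hu))
          have e : (a * (a⁻¹ * u * a⁻¹⁻¹) * a⁻¹ * (a⁻¹ * u * a⁻¹⁻¹)⁻¹)⁻¹ = a⁻¹ * u * a⁻¹⁻¹ * u⁻¹ := by group
          rwa [e] at h1 }
    have h1 : K ≤ H := by
      refine iSup_le fun g a ha => ⟨KP (AgK g g.2 ha), fun y hy => ?_⟩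
      rw [mem_cj] at ha
      have h2 := hRg g g.2 _ (h.comm_Y o ha (cmY (inv_mem g.2) hy))
      have e : (g : G) * ((g : G)⁻¹ * a * g * ((g : G)⁻¹ * y * (g : G)⁻¹⁻¹) * ((g : G)⁻¹ * a * g)⁻¹ *
        ((g : G)⁻¹ * y * (g : G)⁻¹⁻¹)⁻¹) * (g : G)⁻¹ = a * y * a⁻¹ * y⁻¹ := by group
      rwa [e] at h2
    exact fun g hg => (h1 hg).2
  -- `C_K(U) ≤ C(Y)`
  have hKU : ∀ g ∈ K, g ∈ centralizer (U : Set G) → g ∈ centralizer (Y : Set G) := by
    intro g hg hgU
    have hgP := KP hg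
    have hodd : ∀ y ∈ Y, (g * g) * y = y * (g * g) := by
      intro y hy
      have h1 := WU (hKW g hg y hy)
      have h2 : g * (g * y * g⁻¹ * y⁻¹) = (g * y * g⁻¹ * y⁻¹) * g := (mem_centralizer_iff.1 hgU _ h1).symm
      have h3 : (g * y * g⁻¹ * y⁻¹) * (g * y * g⁻¹ * y⁻¹) = 1 := h.sq _ (h.UY h1)
      have h4 : g * g * y * (g * g)⁻¹ * y⁻¹ = (g * (g * y * g⁻¹ * y⁻¹) * g⁻¹) * (g * y * g⁻¹ * y⁻¹) := by group
      rw [h2, mul_inv_cancel_right, h3] at h4
      exact mul_inv_eq_iff_eq_mul.1 (mul_inv_eq_one.1 h4)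
    obtain ⟨n, hn, a, ha⟩ := NOThreeL.Low.exists_odd_pow g
    obtain ⟨p, hp, hpT⟩ := exists_conj_mem hT (pow_mem hgP n) (NOThreeL.Low.isPGroup_zpowers ha)
    have h5 : p * g ^ n * p⁻¹ ∈ centralizer (U : Set G) := by
      rw [← cjU hp, ← cj_centralizer]
      exact conj_mem_iff.2 (pow_mem hgU n)
    have h6 := h.QY _ hpT h5
    rw [← cjY hp, ← cj_centralizer] at h6
    have h7 := conj_mem_iff.1 h6
    obtain ⟨t, rfl⟩ := hn
    have h8 : (g * g) ^ t ∈ centralizer (Y : Set G) := by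
      have h9 : g * g ∈ centralizer (Y : Set G) := mem_centralizer_iff.2 fun y hy => (hodd y hy).symm
      exact pow_mem h9 t
    have e : g = ((g * g) ^ t)⁻¹ * g ^ (2 * t + 1) := by
      rw [← pow_two, ← pow_mul, pow_succ]; group
    rw [e]
    exact mul_mem (inv_mem h8) h7
  -- the action of `K`
  have hKact : ∀ g ∈ K, ∃ B : Matrix.SpecialLinearGroup (Fin 2) F, ActsSL M.e U D g fun _ => B := by
    let H : Subgroup G :=
      { carrier := {g | g ∈ P ∧ ∃ B : Matrix.SpecialLinearGroup (Fin 2) F, ActsSL M.e U D g fun _ => B}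
        mul_mem' := by
          rintro a b ⟨ha, B, h1⟩ ⟨hb, C, h2⟩
          exact ⟨mul_mem ha hb, B * C, act_mul (M := M) hA hb h1 h2⟩
        one_mem' := ⟨one_mem _, 1, act_cent (M := M) hA.DV (one_mem _)⟩
        inv_mem' := by
          rintro a ⟨ha, B, h1⟩
          exact ⟨inv_mem ha, B⁻¹, act_inv (M := M) hA ha h1⟩ }
    have h1 : K ≤ H := by
      refine iSup_le fun g a ha => ⟨KP (AgK g g.2 ha), ?_⟩
      rw [mem_cj] at ha
      obtain ⟨B, hB1⟩ := hconj g g.2 _ ha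
      have e : (g : G) * ((g : G)⁻¹ * a * g) * (g : G)⁻¹ = a := by group
      rw [e] at hB1
      exact ⟨B, hB1⟩
    exact fun g hg => (h1 hg).2
  have hBKc : ∀ g ∈ K, ∃ b ∈ B₀, b⁻¹ * g ∈ centralizer (Y : Set G) := by
    intro g hg
    obtain ⟨B, hgB⟩ := hKact g hg
    obtain ⟨b, hb, hbB⟩ := hfull B
    exact ⟨b, hb, hKU _ (mul_mem (inv_mem (BK hb)) hg) (cent_of_same (M := M) hA (KP hg) (BP hb) hgB hbB)⟩
  -- `Y = W C_Y(K)`
  have DA : D ≤ centralizer (A : Set G) := by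
    intro d hd
    rw [mem_centralizer_iff]
    intro a ha
    obtain ⟨c, hac⟩ := hup' a ha
    exact hac.2 d hd
  have s1 : ∀ y ∈ Y, ∃ w ∈ W, ∃ c ∈ Y ⊓ centralizer (A : Set G), y = w * c := by
    intro y hy
    obtain ⟨u, hu, c, hc, rfl⟩ := h.split_U hy
    obtain ⟨w, hw, d, hd, rfl⟩ := UWD u hu
    exact ⟨w, hw, d * c, mul_mem ⟨h.UY (hA.DV hd), DA hd⟩ hc, by group⟩
  have s2 : ∀ y ∈ Y, ∃ w ∈ W, ∃ c ∈ Y ⊓ centralizer (cj x A : Subgroup G), y = w * c := by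
    intro y hy
    obtain ⟨w, hw, c, hc, e⟩ := s1 _ (cmY (inv_mem hx) hy)
    refine ⟨x * w * x⁻¹, hWg x hx w hw, x * c * x⁻¹, ⟨cmY hx hc.1, ?_⟩, ?_⟩
    · rw [← cj_centralizer]
      exact conj_mem_iff.2 hc.2
    · have e2 : y = x * (x⁻¹ * y * x⁻¹⁻¹) * x⁻¹ := by group
      rw [e2, e]; group
  have hsplit : ∀ y ∈ Y, ∃ w ∈ W, ∃ c ∈ Y ⊓ centralizer (K : Set G), y = w * c := by
    intro y hy
    obtain ⟨w, hw, c, hc, rfl⟩ := s1 y hy
    obtain ⟨w', hw', c', hc', e1⟩ := s2 c hc.1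
    obtain ⟨r, hr, r', hr', rfl⟩ := memW w' hw'
    set c'' : G := (x * r' * x⁻¹) * c' with hc''
    have e2 : c = r * c'' := by rw [e1, hc'']; group
    have hr'x : x * r' * x⁻¹ ∈ centralizer (cj x A : Subgroup G) := by
      rw [← cj_centralizer]
      exact conj_mem_iff.2 (h.RA hr')
    have h1 : c'' ∈ centralizer (cj x A : Subgroup G) := mul_mem hr'x hc'.2
    have h2 : c'' ∈ centralizer (A : Set G) := by
      have e3 : c'' = r⁻¹ * c := by rw [e2]; group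
      rw [e3]
      exact mul_mem (inv_mem (h.RA hr)) hc.2
    have h3 : c'' ∈ Y := mul_mem (cmY hx (h.UY (RU hr'))) hc'.1
    have h4 : c'' ∈ centralizer (K : Set G) := by
      rw [mem_centralizer_iff]
      intro g hg
      obtain ⟨b, hb, hbg⟩ := hBKc g hg
      have h5 : b * c'' = c'' * b := by
        have h6 : B₀ ≤ centralizer ({c''} : Set G) := by
          refine sup_le (fun a ha => ?_) fun a ha => ?_
          · exact mem_centralizer_singleton_iff.2 (mem_centralizer_iff.1 h2 a ha)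
          · exact mem_centralizer_singleton_iff.2 (mem_centralizer_iff.1 h1 a ha)
        exact mem_centralizer_singleton_iff.1 (h6 hb)
      have h7 : c'' * (b⁻¹ * g) = b⁻¹ * g * c'' := mem_centralizer_iff.1 hbg c'' h3
      calc g * c'' = b * (b⁻¹ * g * c'') := by group
        _ = b * (c'' * (b⁻¹ * g)) := by rw [h7]
        _ = (b * c'') * (b⁻¹ * g) := by group
        _ = (c'' * b) * (b⁻¹ * g) := by rw [h5]
        _ = c'' * g := by group
    refine ⟨w * r, mul_mem hw (mem_sup_left hr), c'', ⟨h3, h4⟩, ?_⟩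
    rw [e2]; group
  refine ⟨W, K, x, ?_⟩
  refine
    { xP := hx, W_eq := hW, RU := RU, WU := WU, PW := PW, AK := AK, KP := KP, PK := PK
      comm := fun a ha y hy => h.comm_Y o ha hy
      cc := fun y hy hyA => h.cc o hy hyA
      commK := hKW
      mul := fun v hv w hw => by rw [M.mul v (WU hv) w (WU hw)]; rfl
      inj := hinj, sur := hsur
      line := fun v hv => ⟨fun hr => h.e_R o hr, fun h0 => ?_⟩
      upa := fun a ha => ?_
      ups := fun c => ?_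
      act := fun g hg => ?_
      full := fun B => ?_
      BK := hBKc, KU := hKU, split := hsplit
      dis := ?_ }
  · obtain ⟨r, hr, r', hr', rfl⟩ := memW v hv
    rw [ew r hr r' hr'] at h0
    have h2 : - M.e r' 0 0 = 0 := h0
    rw [h.R_D o hr' (neg_eq_zero.1 h2)]
    have e : r * (x * 1 * x⁻¹) = r := by group
    rw [e]; exact hr
  · obtain ⟨c, hac⟩ := hup' a ha
    exact ⟨c, fun v hv => hac.1 v (WU hv) 0⟩
  · obtain ⟨a, ha, hac⟩ := hup c
    exact ⟨a, ha, fun v hv => hac.1 v (WU hv) 0⟩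
  · obtain ⟨B, hgB⟩ := hKact g hg
    exact ⟨B, fun v hv => hgB.1 v (WU hv) 0⟩
  · obtain ⟨b, hb, hbB⟩ := hfull B
    exact ⟨b, hb, fun v hv => hbB.1 v (WU hv) 0⟩
  · refine eq_bot_iff.2 fun w hw => mem_bot.2 (hinj w hw.1 ?_)
    have h1 : w ∈ centralizer (A : Set G) := centralizer_le (by exact_mod_cast AK) hw.2
    have h2 : w ∈ centralizer (cj x A : Subgroup G) := centralizer_le (by exact_mod_cast AgK x hx) hw.2
    have h3 : M.e w 0 1 = 0 := o.zero_of_cent (WU hw.1) h1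
    have h4 : x⁻¹ * w * x⁻¹⁻¹ ∈ centralizer (A : Set G) := by
      rw [← cj_centralizer, mem_cj] at h2
      rwa [inv_inv]
    have h5 : M.e (x⁻¹ * w * x⁻¹⁻¹) 0 1 = 0 := o.zero_of_cent (hA.cm (inv_mem hx) (WU hw.1)) h4
    have h6 := hxw.1 _ (hA.cm (inv_mem hx) (WU hw.1)) 0
    have e : x * (x⁻¹ * w * x⁻¹⁻¹) * x⁻¹ = w := by group
    rw [e, ap_ww, h5] at h6
    exact ext2 (congrFun h6 0) h3

end InO

end Cfsg.Agent.Omega.NOThreeL.RWide.ParA

end

section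


/-!
# `par` over `T`, active case (helper506 #27090), piece [O]: interface

* `ambD_of` : the ambient facts for `zl T P`, `cv T P` from `Syl T P`, `IsMinPar T P`, characteristic 2;
* `OutO.KC`, `OutO.PC`, `OutO.sup_eq` (`K ⊔ T = P`), `OutO.trW`, `OutO.splitC`, `OutO.djC`, `OutO.card_R`, `OutO.card_W` :
  the facts used by [B] (`Burn.burn`) with `Cc = Y ⊓ C(K)`.
-/

set_option autoImplicit false
set_option linter.unusedSectionVars false

namespace Cfsg.Agent.Omega.NOThreeL.RWide.ParA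

open Subgroup Cfsg Cfsg.Agent.ZN Cfsg.Agent.ZN.ChoiceBase Cfsg.Agent.Omega.MinPar
open Cfsg.Agent.MinSimple.MinParabolic
open Cfsg.Agent.ZN.ChoiceSit (Syl)
open Cfsg.Agent.Omega.FrameFF (cv)
open Cfsg.Agent.Omega.FFThm (ElemM OffM NoOverM NatKM SymKM ConclM StmtM ActsSL relIndex_le_iff)
open Cfsg.Agent.Omega.NatPair (ap ap_mul ap_one ap_inv_ap ap_zero' ap_one' ext2 exists_ap exists_ap_e)
open Cfsg.Agent.Omega.NOThreeL.NF.NatR (Const ap_up ap_lo)
open Cfsg.Agent.Omega.NO3S.SOne.NatD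
open Cfsg.Agent.Lib.SL2Mat
open scoped commutatorElement Pointwise

universe u

variable {G : Type u} [Group G]

/-! ### The ambient facts -/

/-- **the ambient facts over `T`** -/
theorem ambD_of [Finite G] {F : Type} [Field F] {T P : Subgroup G} {k : ℕ} (hT : Syl T P) (hP : IsMinPar T P)
    (hc : P ⊓ centralizer (o2 P : Set G) ≤ o2 P) (M : NatKM F T P (zl T P) (cv T P) k) :
    AmbD T P (zl T P) (cv T P) := by
  classical
  have hSyl := ChoiceSit.syl_not_dvd hT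
  have h2T : IsPGroup 2 T := hT.2.1
  have hPV : P ≤ normalizer (zl T P : Set G) := MinSimple.VModule.le_normalizer_zl _ _
  have hPD : P ≤ normalizer (cv T P : Set G) := P_cv _ _
  have hDV : cv T P ≤ zl T P := inf_le_left
  have hsq : ∀ x ∈ zl T P, x * x = 1 := fun x hx => by
    rw [← pow_two]; exact MinSimple.VModule.zl_sq hP.le h2T hSyl hc x hx
  refine ⟨hP.le, hPV, hPD, hDV, MinSimple.VModule.zl_comm hP.le h2T hSyl hc, hsq, fun g hg hg1 hg2 => ?_⟩
  set V := zl T P with hV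
  set D := cv T P with hD
  set K := K0 P V D hPV with hK
  have hgK : g ∈ K := ⟨hg, hg1, hg2⟩
  have hKP : K ≤ P := fun x hx => hx.1
  have hKn : P ≤ normalizer (K : Set G) := le_normalizer_K0 hPV hPD
  by_cases hk : k = 0
  · rw [mem_centralizer_iff]
    intro v hv
    refine (hg2 v ((M.ker v hv).1 ?_)).symm
    funext i
    exact absurd i.2 (by omega)
  have hi0 : 0 < k := Nat.pos_of_ne_zero hk
  have i : Fin k := ⟨0, hi0⟩
  rcases hP.sup_eq_or_inf_le (p := 2) h2T hSyl hKP hKn with h1 | h1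
  · exfalso
    obtain ⟨p, hp, hac, -⟩ := M.lift (Pi.mulSingle i (lo 1))
    have hp' : p ∈ ((K ⊔ T : Subgroup G) : Set G) := by
      rw [h1]; exact hp
    rw [sup_comm, coe_mul_of_left_le_normalizer_right _ _ (hP.le.trans hKn)] at hp'
    obtain ⟨s, hs, x, hx, rfl⟩ := hp'
    obtain ⟨σ, hσ⟩ := M.line s hs
    obtain ⟨v, hv, hvi, hvj⟩ := exists_pt M i ![1, 0]
    have hxv : M.e (x * v * x⁻¹) = M.e v :=
      (e_eq_iff (M := M) ((mem_normalizer_iff.1 (hPV hx.1) v).1 hv) hv).2 (hx.2.1 v hv)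
    have hxvV : x * v * x⁻¹ ∈ V := (mem_normalizer_iff.1 (hPV hx.1) v).1 hv
    have h2 := hac v hv i
    have e1 : s * x * v * (s * x)⁻¹ = s * (x * v * x⁻¹) * s⁻¹ := by group
    dsimp only at h2
    rw [e1, Pi.mulSingle_eq_same, hvi, ap_lo] at h2
    have h3 : M.e (s * (x * v * x⁻¹) * s⁻¹) i 1 = 0 := by
      have h4 := (hσ _ hxvV (σ.symm i)).2 (by
        rw [hxv]
        by_cases h5 : σ.symm i = i
        · rw [h5, hvi]; rfl
        · rw [hvj _ h5]; rfl)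
      rwa [Equiv.apply_symm_apply] at h4
    rw [h2] at h3
    simp at h3
  · have hsqK : ∀ x ∈ K, x * x ∈ centralizer (V : Set G) := by
      rintro x ⟨hx, hx1, hx2⟩
      rw [mem_centralizer_iff]
      intro v hv
      set d := x * v * x⁻¹ * v⁻¹ with hd
      have hdD : d ∈ D := hx1 v hv
      have h2 : x * v * x⁻¹ = d * v := by rw [hd]; group
      have h3 : x * d * x⁻¹ = d := by rw [hx2 d hdD, mul_inv_cancel_right]
      have h4 : x * x * v * (x * x)⁻¹ = v := by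
        calc x * x * v * (x * x)⁻¹ = x * (x * v * x⁻¹) * x⁻¹ := by group
          _ = x * (d * v) * x⁻¹ := by rw [h2]
          _ = x * d * x⁻¹ * (x * v * x⁻¹) := by group
          _ = v := by rw [h3, h2, ← mul_assoc, hsq d (hDV hdD), one_mul]
      exact (mul_inv_eq_iff_eq_mul.1 h4).symm
    have hcP : ∀ p ∈ P, ∀ x, x ∈ centralizer (V : Set G) → p * x * p⁻¹ ∈ centralizer (V : Set G) := by
      intro p hp x hx
      have e : cj p V = V := cj_eq_of_mem_normalizer (hPV hp)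
      rw [← e, ← cj_centralizer]
      exact conj_mem_iff.2 hx
    have h2core : ∀ x ∈ K, IsPGroup 2 (zpowers x) → x ∈ centralizer (V : Set G) := by
      intro x hx hx2
      obtain ⟨p, hp, hpx⟩ := exists_conj_mem hT (hKP hx) hx2
      have h3 : p * x * p⁻¹ ∈ centralizer (V : Set G) :=
        MinSimple.VModule.o2_le_centralizer_zl hP.le h2T hSyl hc (h1 ⟨hpx, (mem_normalizer_iff.1 (hKn hp) x).1 hx⟩)
      have h4 := hcP p⁻¹ (inv_mem hp) _ h3
      have e : p⁻¹ * (p * x * p⁻¹) * p⁻¹⁻¹ = x := by group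
      rwa [e] at h4
    obtain ⟨n, hn, a, ha⟩ := NOThreeL.Low.exists_odd_pow g
    have h5 := h2core (g ^ n) (pow_mem hgK n) (NOThreeL.Low.isPGroup_zpowers ha)
    obtain ⟨t, rfl⟩ := hn
    have h6 : (g * g) ^ t ∈ centralizer (V : Set G) := pow_mem (hsqK g hgK) t
    have e : g = ((g * g) ^ t)⁻¹ * g ^ (2 * t + 1) := by
      rw [← pow_two, ← pow_mul, pow_succ]; group
    rw [e]
    exact mul_mem (inv_mem h6) h5

/-! ### The facts used by [B] -/

namespace OutO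

variable {P U A R Y W K : Subgroup G} {x : G} {F : Type} [Field F] {f : G → Fin 2 → F}
  (h : OutO P U A R Y W K x F f)
include h

theorem RW : R ≤ W := by
  rw [h.W_eq]; exact le_sup_left

theorem KC : K ≤ centralizer ((Y ⊓ centralizer (K : Set G) : Subgroup G) : Set G) := fun g hg =>
  mem_centralizer_iff.2 fun _ hc => (mem_centralizer_iff.1 hc.2 g hg).symm

theorem PC (hY : P ≤ normalizer (Y : Set G)) : P ≤ normalizer ((Y ⊓ centralizer (K : Set G) : Subgroup G) : Set G) := by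
  intro g hg
  have h1 : cj g (centralizer (K : Set G)) = centralizer (K : Set G) := by
    rw [cj_centralizer, cj_eq_of_mem_normalizer (h.PK hg)]
  rw [mem_normalizer_iff_cj, cj_inf, h1, cj_eq_of_mem_normalizer (hY hg)]

theorem splitC : Y ≤ W ⊔ (Y ⊓ centralizer (K : Set G)) := by
  intro y hy
  obtain ⟨w, hw, c, hc, rfl⟩ := h.split y hy
  exact mul_mem (mem_sup_left hw) (mem_sup_right hc)

theorem djC : W ⊓ (Y ⊓ centralizer (K : Set G)) = ⊥ := by
  refine eq_bot_iff.2 fun w hw => ?_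
  rw [← h.dis]
  exact ⟨hw.1, hw.2.2⟩

/-- `K ⊔ T = P` -/
theorem sup_eq [Finite G] {T : Subgroup G} (hT : Syl T P) (hP : IsMinPar T P) (AT : A ≤ T)
    (hU : o2 P ≤ centralizer (U : Set G)) (hA : ¬ A ≤ centralizer (U : Set G)) : K ⊔ T = P := by
  have : Fact (Nat.Prime 2) := ⟨Nat.prime_two⟩
  rcases hP.sup_eq_or_inf_le (p := 2) hT.2.1 (ChoiceSit.syl_not_dvd hT) h.KP h.PK with h1 | h1
  · exact h1
  · exact absurd (((le_inf AT h.AK).trans h1).trans hU) hA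

theorem map_one : f 1 = 0 := by
  have h1 := h.mul 1 (one_mem _) 1 (one_mem _)
  rw [one_mul] at h1
  exact left_eq_add.1 h1

theorem map_inv {v : G} (hv : v ∈ W) : f v⁻¹ = - f v := by
  have h1 := h.mul v hv v⁻¹ (inv_mem hv)
  rw [mul_inv_cancel, h.map_one] at h1
  exact (neg_eq_of_add_eq_zero_right h1.symm).symm

theorem f_inj {v w : G} (hv : v ∈ W) (hw : w ∈ W) (e : f v = f w) : v = w := by
  refine mul_inv_eq_one.1 (h.inj _ (mul_mem hv (inv_mem hw)) ?_)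
  rw [h.mul v hv _ (inv_mem hw), h.map_inv hw, e, add_neg_cancel]

theorem AP : A ≤ P := h.AK.trans h.KP

theorem BK' : A ⊔ cj x A ≤ K := by
  have e : cj x K = K := cj_eq_of_mem_normalizer (h.PK h.xP)
  refine sup_le h.AK ?_
  rw [← e]
  exact cj_mono x h.AK

/-- `K` is transitive on `W#` -/
theorem trW : ∀ v ∈ W, v ≠ 1 → ∀ w ∈ W, w ≠ 1 → ∃ k ∈ K, k * v * k⁻¹ = w := by
  intro v hv hv1 w hw hw1
  obtain ⟨A₁, h1⟩ := exists_ap_e (x := f v) fun e => hv1 (h.inj v hv e)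
  obtain ⟨A₂, h2⟩ := exists_ap_e (x := f w) fun e => hw1 (h.inj w hw e)
  obtain ⟨g, hg, hgv⟩ := h.full (A₂ * A₁⁻¹)
  refine ⟨g, h.BK' hg, ?_⟩
  refine h.f_inj ((mem_normalizer_iff.1 (h.PW (h.KP (h.BK' hg))) v).1 hv) hw ?_
  rw [hgv v hv, ← h1, ap_mul, ap_inv_ap, h2]

theorem card_F [Finite F] : Nat.card W = Nat.card F ^ 2 := by
  classical
  let φ : W → (Fin 2 → F) := fun w => f w
  have hb : Function.Bijective φ := by
    refine ⟨fun a b e => Subtype.ext (h.f_inj a.2 b.2 e), fun y => ?_⟩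
    obtain ⟨v, hv, e⟩ := h.sur y
    exact ⟨⟨v, hv⟩, e⟩
  rw [Nat.card_congr (Equiv.ofBijective φ hb), Nat.card_fun]
  simp

theorem card_R [Finite F] : Nat.card R = Nat.card F := by
  classical
  let φ : R → F := fun r => f r 0
  have hb : Function.Bijective φ := by
    refine ⟨fun a b e => Subtype.ext (h.f_inj (h.RW a.2) (h.RW b.2) (ext2 e ?_)), fun y => ?_⟩
    · rw [(h.line a (h.RW a.2)).1 a.2, (h.line b (h.RW b.2)).1 b.2]
    · obtain ⟨v, hv, e⟩ := h.sur ![y, 0]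
      exact ⟨⟨v, (h.line v hv).2 (by rw [e]; rfl)⟩, by change f v 0 = y; rw [e]; rfl⟩
  exact Nat.card_congr (Equiv.ofBijective φ hb)

theorem card_W [Finite F] : Nat.card W = Nat.card R ^ 2 := by
  rw [h.card_F, h.card_R]

/-- `C_P(A) ∩ W = R` -/
theorem inf_cent : W ⊓ centralizer (A : Set G) ≤ R := by
  intro w hw
  obtain ⟨a, ha, hac⟩ := h.ups 1
  have h1 : a * w * a⁻¹ = w := mul_inv_eq_iff_eq_mul.2 (mem_centralizer_iff.1 hw.2 a ha)
  have h2 := hac w hw.1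
  rw [h1, ap_up] at h2
  have h3 := congrFun h2 0
  refine (h.line w hw.1).2 ?_
  have h4 : f w 0 = f w 0 + 1 * f w 1 := h3
  rw [one_mul] at h4
  exact left_eq_add.1 h4

end OutO

/-! ### The plug -/

/-- **The input of [O] over `U = zl T P`** without the ambient facts. -/
structure InT (T P A V R Y : Subgroup G) : Prop where
  syl : Syl T P
  par : IsMinPar T P
  char2 : P ⊓ centralizer (o2 P : Set G) ≤ o2 P
  AT : A ≤ T
  off : OffM (zl T P) A
  ab : ∀ x ∈ Y, ∀ y ∈ Y, x * y = y * x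
  sq : ∀ x ∈ Y, x * x = 1
  UY : zl T P ≤ Y
  VY : V ≤ Y
  PY : P ≤ normalizer (Y : Set G)
  QY : ∀ g ∈ T, g ∈ centralizer (zl T P : Set G) → g ∈ centralizer (Y : Set G)
  th : (centralizer (A : Set G)).relIndex Y ≤ (centralizer (Y : Set G)).relIndex A
  RV : R ≤ V
  VR : ¬ V ≤ R
  RT : T ≤ normalizer (R : Set G)
  RA : R ≤ centralizer (A : Set G)
  AV : ∀ a ∈ A, ∀ v ∈ V, a * v * a⁻¹ * v⁻¹ ∈ R
  vA : ∀ v ∈ V, v ∉ R → ∀ r ∈ R, ∃ a ∈ A, a * v * a⁻¹ * v⁻¹ = r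
  aV : ∀ a ∈ A, a ∉ centralizer (V : Set G) → ∀ r ∈ R, ∃ v ∈ V, a * v * a⁻¹ * v⁻¹ = r
  card : (centralizer (V : Set G)).relIndex A ≤ (centralizer (A : Set G)).relIndex V
  nD : ¬ R ≤ cv T P

/-- the input gives `InO` over the natural module -/
theorem InT.inO [Finite G] {T P A V R Y : Subgroup G} (h : InT T P A V R Y)
    (hN : NoOverM (zl T P) P) (amb : AmbD T P (zl T P) (cv T P)) : InO T P (zl T P) (cv T P) A V R Y where
  amb := amb
  AT := h.AT
  off := h.off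
  ex := relIndex_le_iff.1 (hN A (h.AT.trans h.par.le) h.off.toElemM)
  ab := h.ab
  sq := h.sq
  UY := h.UY
  VY := h.VY
  PY := h.PY
  QY := h.QY
  th := h.th
  RV := h.RV
  VR := h.VR
  RT := h.RT
  RA := h.RA
  AV := h.AV
  vA := h.vA
  aV := h.aV
  card := h.card
  nD := h.nD

/-- **[O]: the block `W = R R^x`.** -/
theorem out_of [Finite G] (hFF : StmtM.{u}) {T P A V R Y : Subgroup G} (h : InT T P A V R Y)
    (hS : ∀ k m : ℕ, 2 ≤ m → SymKM T P (zl T P) (cv T P) k m → False) :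
    ∃ (F : Type) (_ : Field F) (_ : Finite F) (_ : CharP F 2) (W K : Subgroup G) (x : G) (f : G → Fin 2 → F),
      OutO P (zl T P) A R Y W K x F f ∧ K ⊔ T = P := by
  obtain ⟨hN, hC⟩ := hFF G T P h.syl h.par h.char2 ⟨A, h.AT.trans h.par.le, h.off⟩
  rcases hC with ⟨F, i1, i2, i3, k, -, ⟨M⟩⟩ | ⟨k, m, -, hm, ⟨M⟩⟩
  · have hO := h.inO hN (ambD_of h.syl h.par h.char2 M)
    obtain ⟨rfl, i, o⟩ := InO.one M hO
    obtain rfl : i = 0 := Subsingleton.elim _ _
    obtain ⟨W, K, x, hout⟩ := InO.out hO o h.syl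
    refine ⟨F, i1, i2, i3, W, K, x, _, hout, hout.sup_eq h.syl h.par h.AT ?_ h.off.ne⟩
    exact MinSimple.VModule.o2_le_centralizer_zl h.par.le h.syl.2.1 (ChoiceSit.syl_not_dvd h.syl) h.char2
  · exact (hS k m hm M).elim

end Cfsg.Agent.Omega.NOThreeL.RWide.ParA

end

section


/-!
# `par` over `T`, active case (helper506 #27090), piece [O]: no even-subset modules

`InO.no_sym` : `U / D` is not a sum of even-subset modules of `S_{2^m+1}`, `m ≥ 2`: `R` would have its coordinates in one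
pair of points, and be `T`-invariant.
-/

set_option autoImplicit false
set_option linter.unusedSectionVars false

namespace Cfsg.Agent.Omega.NOThreeL.RWide.ParA

open Subgroup Cfsg Cfsg.Agent.ZN Cfsg.Agent.ZN.ChoiceBase Cfsg.Agent.Omega.MinPar
open Cfsg.Agent.MinSimple.MinParabolic
open Cfsg.Agent.ZN.ChoiceSit (Syl)
open Cfsg.Agent.Omega.FrameFF (cv)
open Cfsg.Agent.Omega.FFThm (ElemM OffM NoOverM NatKM SymKM SymK ConclM StmtM ActsSL ActsSym relIndex_le_iff)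
open Cfsg.Agent.Omega.NO3S.SOne.NatD
open scoped commutatorElement Pointwise

universe u

variable {G : Type u} [Group G]

/-- **no even-subset modules** -/
theorem InO.no_sym [Finite G] {T P U D A V R Y : Subgroup G} {k m : ℕ} (h : InO T P U D A V R Y)
    (M : SymKM T P U D k m) (hm : 2 ≤ m) (hT : Syl T P) : False := by
  classical
  have hA := h.amb
  have hchar : ∀ x : ZMod 2, x + x = 0 := fun x => CharTwo.add_self_eq_zero x
  have hUn : ∀ g ∈ P, ∀ w ∈ U, g * w * g⁻¹ ∈ U := fun g hg w hw => hA.cm hg hw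
  have he1 : M.e 1 = 0 := by
    have h1 := M.mul 1 (one_mem _) 1 (one_mem _)
    rw [mul_one] at h1
    exact left_eq_add.1 h1
  have heinv : ∀ w ∈ U, M.e w⁻¹ = M.e w := by
    intro w hw
    have h1 := M.mul w hw w⁻¹ (inv_mem hw)
    rw [mul_inv_cancel, he1] at h1
    have h2 : M.e w + M.e w = 0 := by
      funext i j
      exact hchar _
    have h3 : M.e w + M.e w⁻¹ = M.e w + M.e w := h1.symm.trans h2.symm
    exact add_left_cancel h3
  have hecom : ∀ g ∈ P, ∀ w ∈ U, M.e (g * w * g⁻¹ * w⁻¹) = M.e (g * w * g⁻¹) + M.e w := by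
    intro g hg w hw
    rw [M.mul _ (hUn g hg w hw) _ (inv_mem hw), heinv w hw]
  -- `v = u c`
  obtain ⟨v, hv, hvR⟩ := h.exists_v
  obtain ⟨u, hu, c, hc, e⟩ := h.split_U (h.VY hv)
  have hR : ∀ r ∈ R, ∃ a ∈ A, a * u * a⁻¹ * u⁻¹ = r := by
    intro r hr
    obtain ⟨a, ha, har⟩ := h.vA v hv hvR r hr
    refine ⟨a, ha, ?_⟩
    rw [← har, e, h.cm_eq ha (h.UY hu) hc]
  have RU := h.RU
  obtain ⟨-, hoff⟩ := M.offM A h.AT h.off
  -- `r₀ ∈ R` with nonzero coordinates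
  obtain ⟨r0, hr0, hr0D⟩ := SetLike.not_le_iff_exists.1 h.nD
  obtain ⟨i, y, hy⟩ : ∃ i y, M.e r0 i y ≠ 0 := by
    by_contra hcon
    push Not at hcon
    exact hr0D ((M.ker r0 (RU hr0)).1 (funext fun i => funext fun x => hcon i x))
  obtain ⟨a, ha, rfl⟩ := hR r0 hr0
  have haP := hA.SP (h.AT ha)
  obtain ⟨τ, hτ, hτ2⟩ := hoff a ha
  set x := (τ i).symm y with hx
  have hxy : τ i x = y := by rw [hx]; simp
  have hne : M.e u i x ≠ M.e u i y := by
    intro e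
    apply hy
    rw [hecom a haP u hu]
    have h1 := hτ u hu i x
    rw [Equiv.Perm.one_apply, hxy] at h1
    show M.e (a * u * a⁻¹) i y + M.e u i y = 0
    rw [h1, e]
    exact hchar _
  have hmv : τ i x ≠ x := by
    rw [hxy]
    intro e
    exact hne (by rw [e])
  have hxy' : x ≠ y := fun e => hmv (hxy.trans e.symm)
  obtain ⟨-, b, hb, hbs⟩ := hτ2 i x hmv
  rw [hxy] at hbs
  have hbP := hA.SP (h.AT hb)
  -- `[U, b]` has its coordinates at `x`, `y`
  have hbj : ∀ w ∈ U, ∀ j, j ≠ i → ∀ z, M.e (b * w * b⁻¹ * w⁻¹) j z = 0 := by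
    intro w hw j hj z
    have h1 := hbs w hw j z
    rw [Equiv.Perm.one_apply, Function.update_of_ne hj] at h1
    rw [hecom b hbP w hw]
    show M.e (b * w * b⁻¹) j z + M.e w j z = 0
    have h2 : (1 : Fin k → Equiv.Perm (Fin (2 ^ m + 1))) j z = z := rfl
    rw [h2] at h1
    rw [h1]
    exact hchar _
  have hbi : ∀ w ∈ U, ∀ z, z ≠ x → z ≠ y → M.e (b * w * b⁻¹ * w⁻¹) i z = 0 := by
    intro w hw z h1 h2
    have h3 := hbs w hw i z
    rw [Equiv.Perm.one_apply, Function.update_self, Equiv.swap_apply_of_ne_of_ne h1 h2] at h3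
    rw [hecom b hbP w hw]
    show M.e (b * w * b⁻¹) i z + M.e w i z = 0
    rw [h3]
    exact hchar _
  have hbx : ∀ z, z = x ∨ z = y → M.e (b * u * b⁻¹ * u⁻¹) i z ≠ 0 := by
    intro z hz h0
    rw [hecom b hbP u hu] at h0
    change M.e (b * u * b⁻¹) i z + M.e u i z = 0 at h0
    rcases hz with rfl | rfl
    · have h1 := hbs u hu i y
      rw [Equiv.Perm.one_apply, Function.update_self, Equiv.swap_apply_right] at h1
      rw [h1] at h0
      exact hne (add_eq_zero_iff_eq_neg.1 (by rw [add_comm]; exact h0) |>.trans (by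
        rw [neg_eq_iff_add_eq_zero]; exact hchar _))
    · have h1 := hbs u hu i x
      rw [Equiv.Perm.one_apply, Function.update_self, Equiv.swap_apply_left] at h1
      rw [h1] at h0
      exact hne (add_eq_zero_iff_eq_neg.1 h0 |>.trans (by
        rw [neg_eq_iff_add_eq_zero]; exact hchar _))
  -- `r₁ = [b, u] ∈ R`
  have hr1 : b * u * b⁻¹ * u⁻¹ ∈ R := by
    have h1 := h.AV b hb v hv
    rwa [e, h.cm_eq hb (h.UY hu) hc] at h1
  have hbV : b ∉ centralizer (V : Set G) := by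
    intro hcon
    have h1 : b * v * b⁻¹ * v⁻¹ = 1 := by
      rw [← mem_centralizer_iff.1 hcon v hv]; group
    rw [e, h.cm_eq hb (h.UY hu) hc] at h1
    apply hbx x (Or.inl rfl)
    rw [h1, he1]; rfl
  -- the coordinates of `R`
  have hRc : ∀ r ∈ R, ∃ w ∈ U, b * w * b⁻¹ * w⁻¹ = r := by
    intro r hr
    obtain ⟨v', hv', hr'⟩ := h.aV b hb hbV r hr
    obtain ⟨u', hu', c', hc', e'⟩ := h.split_U (h.VY hv')
    refine ⟨u', hu', ?_⟩
    rw [← hr', e', h.cm_eq hb (h.UY hu') hc']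
  have hRj : ∀ r ∈ R, ∀ j, j ≠ i → ∀ z, M.e r j z = 0 := by
    intro r hr j hj z
    obtain ⟨w, hw, rfl⟩ := hRc r hr
    exact hbj w hw j hj z
  have hRi : ∀ r ∈ R, ∀ z, z ≠ x → z ≠ y → M.e r i z = 0 := by
    intro r hr z h1 h2
    obtain ⟨w, hw, rfl⟩ := hRc r hr
    exact hbi w hw z h1 h2
  -- one block
  have hone : ∀ j, j = i := by
    intro j
    by_contra hj
    obtain ⟨t, ht, σ, τ', h1, h2⟩ := M.trans i j
    have h3 := h1 _ (RU hr1) i x
    rw [h2, hRj _ ((mem_normalizer_iff.1 (h.RT ht) _).1 hr1) j hj] at h3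
    exact hbx x (Or.inl rfl) h3.symm
  have hk : k = 1 := by
    have h1 : Subsingleton (Fin k) := ⟨fun a b => (hone a).trans (hone b).symm⟩
    have h2 : k ≤ 1 := by
      by_contra hcon
      push Not at hcon
      have := h1.elim (⟨0, by omega⟩ : Fin k) ⟨1, by omega⟩
      simp [Fin.ext_iff] at this
    have h3 : 0 < k := i.pos
    omega
  subst hk
  obtain rfl : i = 0 := Subsingleton.elim _ _
  -- a point `x' ≠ 0` of the pair, and a further point
  obtain ⟨x', hx', hx'0⟩ : ∃ x', (x' = x ∨ x' = y) ∧ x' ≠ 0 := by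
    by_cases h0 : x = 0
    · exact ⟨y, Or.inr rfl, fun h1 => hxy' (h0.trans h1.symm)⟩
    · exact ⟨x, Or.inl rfl, h0⟩
  obtain ⟨w, hw⟩ : ∃ w : Fin (2 ^ m + 1), w ∉ ({0, x, y} : Finset (Fin (2 ^ m + 1))) := by
    by_contra hcon
    push Not at hcon
    have h2 : Finset.univ ⊆ ({0, x, y} : Finset (Fin (2 ^ m + 1))) := fun y _ => hcon y
    have h3 := Finset.card_le_card h2
    rw [Finset.card_univ, Fintype.card_fin] at h3
    have h4 : ({0, x, y} : Finset (Fin (2 ^ m + 1))).card ≤ 3 := Finset.card_le_three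
    have h5 : 2 ^ 2 ≤ 2 ^ m := Nat.pow_le_pow_right (by norm_num) hm
    omega
  simp only [Finset.mem_insert, Finset.mem_singleton, not_or] at hw
  have hm1 : 1 ≤ m := by omega
  obtain ⟨t, ht, htij⟩ := F4.Split.trans_of_surj (F4.Split.hom M.toSymK hA.PV hm1)
    (F4.Split.hom_surjective M.toSymK hA.PV hm1) (S' := T.subgroupOf P) (ChoiceSit.syl_not_dvd hT)
    (fun s hs => F4.Split.hom_T M.toSymK hA.PV hA.SP hm1 (mem_subgroupOf.1 hs)) hx'0 hw.1
  have h1 := F4.Split.ac_hom M.toSymK hA.PV hm1 t _ (RU hr1) x'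
  rw [htij] at h1
  have h2 := hRi _ ((mem_normalizer_iff.1 (h.RT (mem_subgroupOf.1 ht)) _).1 hr1) w hw.2.1 hw.2.2
  exact hbx x' hx' (h1.symm.trans h2)

end Cfsg.Agent.Omega.NOThreeL.RWide.ParA

end

section


/-!
# `par` over `T`, active case (helper506 #27090), piece [O]: the plug

* `ambD_of_sym` : the ambient facts in the even-subset case;
* `InT.out` : **[O] from the FF theorem.**
-/

set_option autoImplicit false
set_option linter.unusedSectionVars false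

namespace Cfsg.Agent.Omega.NOThreeL.RWide.ParA

open Subgroup Cfsg Cfsg.Agent.ZN Cfsg.Agent.ZN.ChoiceBase Cfsg.Agent.Omega.MinPar
open Cfsg.Agent.MinSimple.MinParabolic
open Cfsg.Agent.ZN.ChoiceSit (Syl)
open Cfsg.Agent.Omega.FrameFF (cv)
open Cfsg.Agent.Omega.FFThm (ElemM OffM NoOverM NatKM SymKM SymK ConclM StmtM ActsSL ActsSym relIndex_le_iff)
open Cfsg.Agent.Omega.NO3S.SOne.NatD
open scoped commutatorElement Pointwise

universe u

variable {G : Type u} [Group G]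

/-- **the ambient facts over `T`**, even-subset modules -/
theorem ambD_of_sym [Finite G] {T P : Subgroup G} {k m : ℕ} (hT : Syl T P) (hP : IsMinPar T P)
    (hc : P ⊓ centralizer (o2 P : Set G) ≤ o2 P) (M : SymKM T P (zl T P) (cv T P) k m) (hm : 1 ≤ m) :
    AmbD T P (zl T P) (cv T P) := by
  classical
  have hSyl := ChoiceSit.syl_not_dvd hT
  have h2T : IsPGroup 2 T := hT.2.1
  have hPV : P ≤ normalizer (zl T P : Set G) := MinSimple.VModule.le_normalizer_zl _ _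
  have hPD : P ≤ normalizer (cv T P : Set G) := P_cv _ _
  have hDV : cv T P ≤ zl T P := inf_le_left
  have hsq : ∀ x ∈ zl T P, x * x = 1 := fun x hx => by
    rw [← pow_two]; exact MinSimple.VModule.zl_sq hP.le h2T hSyl hc x hx
  refine ⟨hP.le, hPV, hPD, hDV, MinSimple.VModule.zl_comm hP.le h2T hSyl hc, hsq, fun g hg hg1 hg2 => ?_⟩
  set V := zl T P with hV
  set D := cv T P with hD
  set K := K0 P V D hPV with hK
  have hgK : g ∈ K := ⟨hg, hg1, hg2⟩
  have hKP : K ≤ P := fun x hx => hx.1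
  have hKn : P ≤ normalizer (K : Set G) := le_normalizer_K0 hPV hPD
  by_cases hk : k = 0
  · rw [mem_centralizer_iff]
    intro v hv
    refine (hg2 v ((M.ker v hv).1 ?_)).symm
    funext i
    exact absurd i.2 (by omega)
  have hi0 : 0 < k := Nat.pos_of_ne_zero hk
  have i : Fin k := ⟨0, hi0⟩
  rcases hP.sup_eq_or_inf_le (p := 2) h2T hSyl hKP hKn with h1 | h1
  · exfalso
    have h01 : (1 : Fin (2 ^ m + 1)) ≠ 0 := by
      intro h3
      have h4 := congrArg Fin.val h3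
      have h5 : 2 ^ 1 ≤ 2 ^ m := Nat.pow_le_pow_right (by norm_num) hm
      rw [Fin.val_one', Fin.val_zero, Nat.mod_eq_of_lt (by omega)] at h4
      exact one_ne_zero h4
    obtain ⟨p, hp, hac, -⟩ := M.lift (Pi.mulSingle i (Equiv.swap 0 1))
    have hp' : p ∈ ((K ⊔ T : Subgroup G) : Set G) := by
      rw [h1]; exact hp
    rw [sup_comm, coe_mul_of_left_le_normalizer_right _ _ (hP.le.trans hKn)] at hp'
    obtain ⟨s, hs, x, hx, rfl⟩ := hp'
    have hxi := inv_mem hx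
    have hsa : ActsSym M.e V s 1 (Pi.mulSingle i (Equiv.swap 0 1)) := by
      intro v hv j y
      have hv' : x⁻¹ * v * x⁻¹⁻¹ ∈ V := (mem_normalizer_iff.1 (hPV hxi.1) v).1 hv
      have h2 := hac _ hv' j y
      have e1 : s * x * (x⁻¹ * v * x⁻¹⁻¹) * (s * x)⁻¹ = s * v * s⁻¹ := by group
      dsimp only at h2
      rw [e1] at h2
      have h3 : x⁻¹ * v * x⁻¹⁻¹ * v⁻¹ ∈ D := hxi.2.1 v hv
      have h4 : M.e (x⁻¹ * v * x⁻¹⁻¹) = M.e v := by
        have h5 := (M.ker _ (hDV h3)).2 h3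
        have h6 := M.mul _ (hDV h3) v hv
        rw [inv_mul_cancel_right, h5, zero_add] at h6
        exact h6
      rw [h2, h4]
    have h3 := M.fix0 s hs _ _ hsa i
    rw [Pi.mulSingle_eq_same, Equiv.swap_apply_left] at h3
    exact h01 h3
  · have hsqK : ∀ x ∈ K, x * x ∈ centralizer (V : Set G) := by
      rintro x ⟨hx, hx1, hx2⟩
      rw [mem_centralizer_iff]
      intro v hv
      set d := x * v * x⁻¹ * v⁻¹ with hd
      have hdD : d ∈ D := hx1 v hv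
      have h2 : x * v * x⁻¹ = d * v := by rw [hd]; group
      have h3 : x * d * x⁻¹ = d := by rw [hx2 d hdD, mul_inv_cancel_right]
      have h4 : x * x * v * (x * x)⁻¹ = v := by
        calc x * x * v * (x * x)⁻¹ = x * (x * v * x⁻¹) * x⁻¹ := by group
          _ = x * (d * v) * x⁻¹ := by rw [h2]
          _ = x * d * x⁻¹ * (x * v * x⁻¹) := by group
          _ = v := by rw [h3, h2, ← mul_assoc, hsq d (hDV hdD), one_mul]
      exact (mul_inv_eq_iff_eq_mul.1 h4).symm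
    have hcP : ∀ p ∈ P, ∀ x, x ∈ centralizer (V : Set G) → p * x * p⁻¹ ∈ centralizer (V : Set G) := by
      intro p hp x hx
      have e : cj p V = V := cj_eq_of_mem_normalizer (hPV hp)
      rw [← e, ← cj_centralizer]
      exact conj_mem_iff.2 hx
    have h2core : ∀ x ∈ K, IsPGroup 2 (zpowers x) → x ∈ centralizer (V : Set G) := by
      intro x hx hx2
      obtain ⟨p, hp, hpx⟩ := exists_conj_mem hT (hKP hx) hx2
      have h3 : p * x * p⁻¹ ∈ centralizer (V : Set G) :=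
        MinSimple.VModule.o2_le_centralizer_zl hP.le h2T hSyl hc (h1 ⟨hpx, (mem_normalizer_iff.1 (hKn hp) x).1 hx⟩)
      have h4 := hcP p⁻¹ (inv_mem hp) _ h3
      have e : p⁻¹ * (p * x * p⁻¹) * p⁻¹⁻¹ = x := by group
      rwa [e] at h4
    obtain ⟨n, hn, a, ha⟩ := NOThreeL.Low.exists_odd_pow g
    have h5 := h2core (g ^ n) (pow_mem hgK n) (NOThreeL.Low.isPGroup_zpowers ha)
    obtain ⟨t, rfl⟩ := hn
    have h6 : (g * g) ^ t ∈ centralizer (V : Set G) := pow_mem (hsqK g hgK) t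
    have e : g = ((g * g) ^ t)⁻¹ * g ^ (2 * t + 1) := by
      rw [← pow_two, ← pow_mul, pow_succ]; group
    rw [e]
    exact mul_mem (inv_mem h6) h5

/-- **[O] from the FF theorem.** -/
theorem InT.out [Finite G] (hFF : StmtM.{u}) {T P A V R Y : Subgroup G} (h : InT T P A V R Y) :
    ∃ (F : Type) (_ : Field F) (_ : Finite F) (_ : CharP F 2) (W K : Subgroup G) (x : G) (f : G → Fin 2 → F),
      OutO P (zl T P) A R Y W K x F f ∧ K ⊔ T = P := by
  refine out_of hFF h fun k m hm M => ?_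
  have hN := (hFF G T P h.syl h.par h.char2 ⟨A, h.AT.trans h.par.le, h.off⟩).1
  exact InO.no_sym (h.inO hN (ambD_of_sym h.syl h.par h.char2 M (by omega))) M hm h.syl

end Cfsg.Agent.Omega.NOThreeL.RWide.ParA

end

section


/-!
# `par` over `T`: the ambient facts over a 2-group `T` which is Sylow in `P` only

* `syl_of` : `Syl T P`; `minH_of'` : `MinH P T`;
* `ambD_of_minPar` : `AmbD T P (zl T P) (cv T P)` for a natural module (split or not);
* `cT_zl` : `C_T(⟨Ω₁(Z(T))^P⟩) ≤ O₂(P)`;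
* `conclM_of` : the FF theorem.
-/

set_option autoImplicit false
set_option linter.unusedSectionVars false
set_option linter.unusedVariables false

namespace Cfsg.Agent.Omega.NOThreeL.RWide.ParA

open Subgroup Cfsg Cfsg.Agent.ZN Cfsg.Agent.ZN.ChoiceBase Cfsg.Agent.Omega.MinPar
open Cfsg.Agent.ZN.ChoiceSit (Syl)
open Cfsg.Agent.MinSimple.MinParabolic (IsMinPar)
open Cfsg.Agent.Omega.FFThm (ElemM OffM NoOverM ConclM NatKM ActsSL relIndex_le_iff)
open Cfsg.Agent.Omega.FrameFF (cv)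
open Cfsg.Agent.Omega.NatPair (ap ap_mul ap_one ap_inv_ap ap_zero' ap_one' ext2 exists_ap)
open Cfsg.Agent.Omega.NOThreeL.NF.NatR (Const ap_up ap_lo)
open Cfsg.Agent.Omega.NO3S.SOne.NatD
open Cfsg.Agent.Lib.SL2Mat
open scoped commutatorElement Pointwise

universe u

variable {G : Type u} [Group G] [Finite G] {T P : Subgroup G}

/-- `T` is a Sylow 2-subgroup of `P`. -/
theorem syl_of (hT : IsPGroup 2 T) (hP : IsMinPar T P) (syl : ¬ 2 ∣ T.relIndex P) : Syl T P := by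
  have : Fact (Nat.Prime 2) := ⟨Nat.prime_two⟩
  refine ⟨hP.le, hT, fun Q hQX hQ hBQ => le_antisymm ?_ hBQ⟩
  have h3 : T.relIndex Q ∣ T.relIndex P := by
    rw [← relIndex_mul_relIndex T Q P hBQ hQX]
    exact dvd_mul_right _ _
  obtain ⟨n, hn⟩ := (IsPGroup.index hQ (T.subgroupOf Q))
  rw [← relIndex] at hn
  rcases Nat.eq_zero_or_pos n with e | hpos
  · rw [e, pow_zero] at hn
    exact relIndex_eq_one.1 hn
  · exact absurd ((dvd_pow_self 2 hpos.ne').trans (hn ▸ h3)) syl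

/-- `MinH P T` -/
theorem minH_of' (hT : IsPGroup 2 T) (hP : IsMinPar T P) (syl : ¬ 2 ∣ T.relIndex P)
    (hc : P ⊓ centralizer (o2 P : Set G) ≤ o2 P) : SQ1.FFOne.MinH P T :=
  SQ1.FFOne.minH_of (syl_of hT hP syl) hP hc

/-- **the ambient facts** (`AmbD.of` with `T` not Sylow in `G`) -/
theorem ambD_of_minPar (hT : IsPGroup 2 T) (hP : IsMinPar T P) (syl : ¬ 2 ∣ T.relIndex P)
    (hc : P ⊓ centralizer (o2 P : Set G) ≤ o2 P) {k : ℕ} {F : Type} [Field F]
    (M : NatKM F T P (zl T P) (cv T P) k) : AmbD T P (zl T P) (cv T P) := by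
  classical
  have hfact : Fact (Nat.Prime 2) := ⟨Nat.prime_two⟩
  have hm := minH_of' hT hP syl hc
  have hPV : P ≤ normalizer (zl T P : Set G) := le_normalizer_zl _ _
  have hPD : P ≤ normalizer (cv T P : Set G) := P_cv _ _
  have hDV : cv T P ≤ zl T P := inf_le_left
  have hsq : ∀ x ∈ zl T P, x * x = 1 := fun x hx => by rw [← pow_two]; exact SQ1.VOf.MinH.sq hm x hx
  refine ⟨hP.le, hPV, hPD, hDV, SQ1.VOf.MinH.comm hm, hsq, fun g hg hg1 hg2 => ?_⟩
  set V := zl T P with hV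
  set D := cv T P with hD
  set K := K0 P V D hPV with hK
  have hgK : g ∈ K := ⟨hg, hg1, hg2⟩
  have hKP : K ≤ P := fun x hx => hx.1
  have hKn : P ≤ normalizer (K : Set G) := le_normalizer_K0 hPV hPD
  by_cases hk : k = 0
  · -- no summand: `V = D`
    rw [mem_centralizer_iff]
    intro v hv
    refine (hg2 v ((M.ker v hv).1 ?_)).symm
    funext i
    exact absurd i.2 (by omega)
  have hi0 : 0 < k := Nat.pos_of_ne_zero hk
  have i : Fin k := ⟨0, hi0⟩
  rcases hP.sup_eq_or_inf_le (p := 2) hT syl hKP hKn with h1 | h1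
  · exfalso
    -- an element of `P` acting as `lo 1` on the summand `i`
    obtain ⟨p, hp, hac, -⟩ := M.lift (Pi.mulSingle i (lo 1))
    have hp' : p ∈ ((K ⊔ T : Subgroup G) : Set G) := by
      rw [h1]; exact hp
    rw [sup_comm, coe_mul_of_left_le_normalizer_right _ _ (hP.le.trans hKn)] at hp'
    obtain ⟨s, hs, x, hx, rfl⟩ := hp'
    obtain ⟨σ, hσ⟩ := M.line s hs
    obtain ⟨v, hv, hvi, hvj⟩ := exists_pt M i ![1, 0]
    have hxv : M.e (x * v * x⁻¹) = M.e v :=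
      (e_eq_iff (M := M) ((mem_normalizer_iff.1 (hPV hx.1) v).1 hv) hv).2 (hx.2.1 v hv)
    have hxvV : x * v * x⁻¹ ∈ V := (mem_normalizer_iff.1 (hPV hx.1) v).1 hv
    have h2 := hac v hv i
    have e1 : s * x * v * (s * x)⁻¹ = s * (x * v * x⁻¹) * s⁻¹ := by group
    dsimp only at h2
    rw [e1, Pi.mulSingle_eq_same, hvi, ap_lo] at h2
    have h3 : M.e (s * (x * v * x⁻¹) * s⁻¹) i 1 = 0 := by
      have h4 := (hσ _ hxvV (σ.symm i)).2 (by
        rw [hxv]
        by_cases h5 : σ.symm i = i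
        · rw [h5, hvi]; rfl
        · rw [hvj _ h5]; rfl)
      rwa [Equiv.apply_symm_apply] at h4
    rw [h2] at h3
    simp at h3
  · -- `T ∩ K ≤ O₂(P) ≤ C(V)`, `x² ∈ C(V)` for `x ∈ K`
    have hsqK : ∀ x ∈ K, x * x ∈ centralizer (V : Set G) := by
      rintro x ⟨hx, hx1, hx2⟩
      rw [mem_centralizer_iff]
      intro v hv
      set d := x * v * x⁻¹ * v⁻¹ with hd
      have hdD : d ∈ D := hx1 v hv
      have h2 : x * v * x⁻¹ = d * v := by rw [hd]; group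
      have h3 : x * d * x⁻¹ = d := by rw [hx2 d hdD, mul_inv_cancel_right]
      have h4 : x * x * v * (x * x)⁻¹ = v := by
        calc x * x * v * (x * x)⁻¹ = x * (x * v * x⁻¹) * x⁻¹ := by group
          _ = x * (d * v) * x⁻¹ := by rw [h2]
          _ = x * d * x⁻¹ * (x * v * x⁻¹) := by group
          _ = v := by rw [h3, h2, ← mul_assoc, hsq d (hDV hdD), one_mul]
      exact (mul_inv_eq_iff_eq_mul.1 h4).symm
    have hcP : ∀ p ∈ P, ∀ x, x ∈ centralizer (V : Set G) → p * x * p⁻¹ ∈ centralizer (V : Set G) := by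
      intro p hp x hx
      rw [mem_centralizer_iff]
      intro v hv
      have h2 : p⁻¹ * v * p⁻¹⁻¹ ∈ V := (mem_normalizer_iff.1 (hPV (inv_mem hp)) v).1 hv
      have h3 := mem_centralizer_iff.1 hx _ h2
      calc v * (p * x * p⁻¹) = p * (p⁻¹ * v * p⁻¹⁻¹ * x) * p⁻¹ := by group
        _ = p * (x * (p⁻¹ * v * p⁻¹⁻¹)) * p⁻¹ := by rw [h3]
        _ = p * x * p⁻¹ * v := by group
    have h2core : ∀ x ∈ K, IsPGroup 2 (zpowers x) → x ∈ centralizer (V : Set G) := by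
      intro x hx hx2
      have hxP : zpowers x ≤ P := by rw [zpowers_le]; exact hKP hx
      obtain ⟨p, hp, hpx⟩ : ∃ p ∈ P, p * x * p⁻¹ ∈ T := by
        obtain ⟨Q, hQ⟩ := (hx2.comap_of_injective P.subtype P.subtype_injective).exists_le_sylow
        have hSP' : IsPGroup 2 (T.subgroupOf P) := hT.comap_of_injective _ P.subtype_injective
        obtain ⟨g, hg⟩ := MulAction.exists_smul_eq P Q (hSP'.toSylow syl)
        refine ⟨g, g.2, ?_⟩
        have h3 : (⟨x, hKP hx⟩ : P) ∈ (Q : Subgroup P) := hQ (by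
          rw [mem_comap]; exact mem_zpowers x)
        have h4 : g * ⟨x, hKP hx⟩ * g⁻¹ ∈ ((hSP'.toSylow syl : Sylow 2 P) : Subgroup P) := by
          rw [← hg, Sylow.coe_subgroup_smul]
          exact ⟨⟨x, hKP hx⟩, h3, rfl⟩
        exact mem_subgroupOf.1 h4
      have h3 : p * x * p⁻¹ ∈ centralizer (V : Set G) := by
        have h4 : p * x * p⁻¹ ∈ o2 P := h1 ⟨hpx, (mem_normalizer_iff.1 (hKn hp) x).1 hx⟩
        exact mem_centralizer_iff.2 fun v hv => (SQ1.VOf.MinH.o2_cent hm _ h4 v hv).symm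
      have h4 := hcP p⁻¹ (inv_mem hp) _ h3
      have e : p⁻¹ * (p * x * p⁻¹) * p⁻¹⁻¹ = x := by group
      rwa [e] at h4
    -- an odd power of `g` is a 2-element
    obtain ⟨n, hn, a, ha⟩ := NOThreeL.Low.exists_odd_pow g
    have h5 := h2core (g ^ n) (pow_mem hgK n) (NOThreeL.Low.isPGroup_zpowers ha)
    obtain ⟨t, rfl⟩ := hn
    have h6 : (g * g) ^ t ∈ centralizer (V : Set G) := pow_mem (hsqK g hgK) t
    have e : g = ((g * g) ^ t)⁻¹ * g ^ (2 * t + 1) := by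
      rw [← pow_two, ← pow_mul, pow_succ]; group
    rw [e]
    exact mul_mem (inv_mem h6) h5

/-- `C_T(V) ≤ O₂(P)` -/
theorem cT_zl (hT : IsPGroup 2 T) (hP : IsMinPar T P) (syl : ¬ 2 ∣ T.relIndex P)
    (mv : ¬ P ≤ centralizer (zc T : Set G)) : T ⊓ centralizer (zl T P : Set G) ≤ o2 P := by
  have hfact : Fact (Nat.Prime 2) := ⟨Nat.prime_two⟩
  have hPV : P ≤ normalizer (zl T P : Set G) := le_normalizer_zl _ _
  have hKn : P ≤ normalizer ((P ⊓ centralizer (zl T P : Set G) : Subgroup G) : Set G) :=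
    NO3b.EZero.le_normalizer_inf_cent hPV
  rcases hP.sup_eq_or_inf_le (p := 2) hT syl (N := P ⊓ centralizer (zl T P : Set G)) inf_le_left hKn with h1 | h1
  · exfalso
    apply mv
    rw [← h1]
    refine sup_le (inf_le_right.trans (centralizer_le SQ1.VOf.zc_le_zl)) fun t ht => ?_
    exact mem_centralizer_iff.2 fun z hz => ((ChoiceBase.mem_zc.1 hz).2.2 t ht).symm
  · exact (le_inf inf_le_left (le_inf (inf_le_left.trans hP.le) inf_le_right)).trans h1

/-- **the FF theorem** over `T` -/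
theorem conclM_of' (hT : IsPGroup 2 T) (hP : IsMinPar T P) (syl : ¬ 2 ∣ T.relIndex P)
    (hc : P ⊓ centralizer (o2 P : Set G) ≤ o2 P) {A : Subgroup G} (hA : A ≤ T) (off : OffM (zl T P) A) :
    NoOverM (zl T P) P ∧ ConclM T P :=
  FF.Glob.ffthmM G T P (syl_of hT hP syl) hP hc ⟨A, hA.trans hP.le, off⟩

/-- **the FF theorem** over `T` -/
theorem conclM_of (hFF : FFThm.Stmt.{u}) (hT : IsPGroup 2 T) (hP : IsMinPar T P) (syl : ¬ 2 ∣ T.relIndex P)
    (hc : P ⊓ centralizer (o2 P : Set G) ≤ o2 P) {A : Subgroup G} (hA : A ≤ T) (off : OffM (zl T P) A) :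
    NoOverM (zl T P) P ∧ ConclM T P := conclM_of' hT hP syl hc hA off

end Cfsg.Agent.Omega.NOThreeL.RWide.ParA

end
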